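import Groth.Agent.InvExt.Step
import Groth.Agent.TildeD.QCohPull
import Groth.Agent.DCohLib.QCohAbelian

/-!
# Extending invertible modules over factorial points
-/

set_option autoImplicit false
set_option backward.isDefEq.respectTransparency false
set_option backward.defeqAttrib.useBackward true
set_option linter.style.haveILetI false

universe u

open CategoryTheory CategoryTheory.Limits AlgebraicGeometry TopologicalSpace Opposite
open Groth.Agent.CohBase Groth.Agent.QCohLib Groth.Agent.SubLib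

noncomputable section

namespace Groth.Agent.InvExt

variable {X : Scheme.{u}} {M : X.Modules}

/-- Zorn. -/
theorem exists_invGood_top [Coh.IsQCoh M] [IsLocallyNoetherian X] {U' : X.Opens} (hdense : Dense (U' : Set X))
    (hM' : InvGood (fun _ => (⊤ : Submodule _ _) : StalkSub M) U')
    (hExt : ∀ W : X.Opens, Function.Bijective (M.presheaf.map (homOfLE (inf_le_left : W ⊓ U' ≤ W)).op))
    (hufd : ∀ x : X, x ∉ U' → ∃ _ : IsDomain (X.presheaf.stalk x), UniqueFactorizationMonoid (X.presheaf.stalk x)) :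
    ∃ N : StalkSub M, (∀ z ∈ U', N z = ⊤) ∧ InvGood N ⊤ := by
  classical
  let St := { p : X.Opens × StalkSub M // U' ≤ p.1 ∧ InvGood p.2 p.1 ∧ ∀ z ∈ U', p.2 z = ⊤ }
  let r : St → St → Prop := fun a b => a.1.1 ≤ b.1.1 ∧ ∀ z ∈ a.1.1, a.1.2 z = b.1.2 z
  obtain ⟨m, hm⟩ : ∃ m : St, ∀ a, r m a → r a m := by
    refine exists_maximal_of_chains_bounded (fun c hc => ?_) fun {a b c} hab hbc =>
      ⟨hab.1.trans hbc.1, fun z hz => (hab.2 z hz).trans (hbc.2 z (hab.1 hz))⟩
    rcases c.eq_empty_or_nonempty with rfl | ⟨a₀, ha₀⟩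
    · exact ⟨⟨(U', fun _ => ⊤), le_rfl, hM', fun _ _ => rfl⟩, fun a ha => absurd ha (Set.notMem_empty a)⟩
    let N : StalkSub M := fun z => if h : ∃ a ∈ c, z ∈ a.1.1 then h.choose.1.2 z else ⊥
    have hN : ∀ a ∈ c, ∀ z ∈ a.1.1, N z = a.1.2 z := by
      intro a ha z hz
      have h : ∃ a ∈ c, z ∈ a.1.1 := ⟨a, ha, hz⟩
      simp only [N, dif_pos h]
      by_cases he : h.choose = a
      · rw [he]
      rcases hc h.choose_spec.1 ha he with hle | hle
      · exact hle.2 z h.choose_spec.2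
      · exact (hle.2 z hz).symm
    let V : X.Opens := ⨆ a : c, a.1.1.1
    have hle : ∀ a ∈ c, a.1.1 ≤ V := fun a ha => le_iSup (fun a : c => a.1.1.1) ⟨a, ha⟩
    refine ⟨⟨(V, N), a₀.2.1.trans (hle a₀ ha₀), fun x hx => ?_, fun z hz => ?_⟩,
      fun a ha => ⟨hle a ha, fun z hz => (hN a ha z hz).symm⟩⟩
    · obtain ⟨⟨a, ha⟩, hxa⟩ := Opens.mem_iSup.mp hx
      obtain ⟨W, hW, hxW, hWa, g, hG⟩ := a.2.2.1 x hxa
      exact ⟨W, hW, hxW, hWa.trans (hle a ha), g, hG.congr fun y hy => hN a ha y (hWa hy)⟩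
    · exact (hN a₀ ha₀ z (a₀.2.1 hz)).trans (a₀.2.2.2 z hz)
  refine ⟨m.1.2, m.2.2.2, fun x _ => ?_⟩
  suffices hx : x ∈ m.1.1 by
    obtain ⟨W, hW, hxW, -, hG⟩ := m.2.2.1 x hx
    exact ⟨W, hW, hxW, le_top, hG⟩
  by_contra hxV
  obtain ⟨_, _⟩ := hufd x fun h => hxV (m.2.1 h)
  obtain ⟨N', W, hxW, hN', hG⟩ := exists_step_inv m.2.1 hdense hM' hExt m.2.2.1 x hxV
  let b : St := ⟨(m.1.1 ⊔ W, N'), m.2.1.trans le_sup_left, hG,
    fun z hz => (hN' z (m.2.1 hz)).trans (m.2.2.2 z hz)⟩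
  exact hxV ((hm b ⟨le_sup_left, fun z hz => (hN' z hz).symm⟩).1 (Or.inr hxW))

/-- A trivialisation on an open immersion gives a chart. -/
theorem exists_chart_of_iso {T : Scheme.{u}} (f : T ⟶ X) [IsOpenImmersion f]
    (e : M.restrict f ≅ Coh.structureModule T) :
    ∃ g : Γ(M, f ''ᵁ ⊤), Chart (fun _ => ⊤ : StalkSub M) (f ''ᵁ ⊤) g := by
  let g₀ : Γ(M.restrict f, ⊤) := e.inv.app ⊤ (1 : Γ(T, ⊤))
  refine ⟨g₀, ?_⟩
  rintro _ ⟨p, -, rfl⟩
  have hloc : ∀ (V : X.Opens) (hV : f.base p ∈ V) (s : Γ(M, V)),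
      ∃ (V₁ : T.Opens) (_ : p ∈ V₁) (hle : f ''ᵁ V₁ ≤ V) (c : Γ(X, f ''ᵁ V₁)),
        c • M.presheaf.map (homOfLE (f.image_mono (le_top : V₁ ≤ ⊤))).op g₀ = M.presheaf.map (homOfLE hle).op s := by
    intro V hV s
    let V₁ : T.Opens := f ⁻¹ᵁ V
    have hle : f ''ᵁ V₁ ≤ V := f.image_preimage_le V
    let s₁ : Γ(M.restrict f, V₁) := M.presheaf.map (homOfLE hle).op s
    let c₀ : Γ(T, V₁) := e.hom.app V₁ s₁
    refine ⟨V₁, hV, hle, (f.appIso V₁).inv c₀, ?_⟩
    have h1 : e.inv.app V₁ c₀ = s₁ := congrArg (fun φ : M.restrict f ⟶ M.restrict f => φ.app V₁ s₁) e.hom_inv_id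
    have h2 : e.inv.app V₁ (c₀ • (1 : Γ(T, V₁))) = c₀ • e.inv.app V₁ (1 : Γ(T, V₁)) :=
      Scheme.Modules.Hom.app_smul e.inv c₀ (1 : Γ(T, V₁))
    have h3 : e.inv.app V₁ (1 : Γ(T, V₁)) = (M.restrict f).presheaf.map (homOfLE (le_top : V₁ ≤ ⊤)).op g₀ := by
      refine Eq.trans ?_ (PresheafOfModules.naturality_apply e.inv.val (homOfLE (le_top : V₁ ≤ ⊤)).op (1 : Γ(T, ⊤)))
      exact congrArg (e.inv.app V₁) (map_one (T.presheaf.map (homOfLE (le_top : V₁ ≤ ⊤)).op).hom).symm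
    rw [h3] at h2
    exact h2.symm.trans ((congrArg (e.inv.app V₁) (mul_one c₀)).trans h1)
  refine ⟨(Submodule.eq_top_iff'.2 fun t => ?_).symm, fun r hr => ?_⟩
  · obtain ⟨V, hV, s, rfl⟩ := TopCat.Presheaf.exists_germ_eq M.presheaf t
    obtain ⟨V₁, hp, hle, c, hc⟩ := hloc V hV s
    have hp' : f.base p ∈ f ''ᵁ V₁ := ⟨p, hp, rfl⟩
    refine Submodule.mem_span_singleton.2 ⟨X.presheaf.germ _ _ hp' c, ?_⟩
    refine Eq.trans ?_ (((congrArg (M.presheaf.germ _ _ hp') hc)).trans (M.presheaf.germ_res_apply _ _ hp' s))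
    rw [germ_smul', M.presheaf.germ_res_apply]
    rfl
  · obtain ⟨D, hD, r, rfl⟩ := TopCat.Presheaf.exists_germ_eq X.presheaf r
    let D₁ : X.Opens := D ⊓ f ''ᵁ ⊤
    have hp₁ : f.base p ∈ D₁ := ⟨hD, p, trivial, rfl⟩
    have h1 : M.presheaf.germ D₁ _ hp₁ ((show Γ(X, D₁) from X.presheaf.map (homOfLE inf_le_left).op r) •
        M.presheaf.map (homOfLE inf_le_right).op (show Γ(M, f ''ᵁ ⊤) from g₀)) = M.presheaf.germ D₁ _ hp₁ 0 := by
      rw [germ_smul', X.presheaf.germ_res_apply, M.presheaf.germ_res_apply, map_zero]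
      exact hr
    obtain ⟨E, hE, j, j', hres⟩ := TopCat.Presheaf.germ_eq M.presheaf _ _ _ _ _ h1
    rw [show j = homOfLE j.le from Subsingleton.elim _ _, map_zero, res_smul'', restr_trans, xres] at hres
    let V₁ : T.Opens := f ⁻¹ᵁ E
    have hle : f ''ᵁ V₁ ≤ E := f.image_preimage_le E
    have h2 := congrArg (M.presheaf.map (homOfLE hle).op) hres
    rw [map_zero, res_smul'', restr_trans, xres] at h2
    let c : Γ(T, V₁) := (f.appIso V₁).hom (X.presheaf.map (homOfLE (hle.trans (j.le.trans inf_le_left))).op r)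
    have h4 : e.inv.app V₁ c = 0 := by
      have h5 : e.inv.app V₁ (c • (1 : Γ(T, V₁))) = c • e.inv.app V₁ (1 : Γ(T, V₁)) :=
        Scheme.Modules.Hom.app_smul e.inv c (1 : Γ(T, V₁))
      have h6 : e.inv.app V₁ (1 : Γ(T, V₁)) = (M.restrict f).presheaf.map (homOfLE (le_top : V₁ ≤ ⊤)).op g₀ := by
        refine Eq.trans ?_ (PresheafOfModules.naturality_apply e.inv.val (homOfLE (le_top : V₁ ≤ ⊤)).op (1 : Γ(T, ⊤)))
        exact congrArg (e.inv.app V₁) (map_one (T.presheaf.map (homOfLE (le_top : V₁ ≤ ⊤)).op).hom).symm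
      refine (congrArg (e.inv.app V₁) (mul_one c).symm).trans (h5.trans ?_)
      rw [h6]
      show (f.appIso V₁).inv c • (show Γ(M, f ''ᵁ V₁) from M.presheaf.map (homOfLE (f.image_mono (le_top : V₁ ≤ ⊤))).op g₀) = _
      show (f.appIso V₁).inv ((f.appIso V₁).hom _) • _ = _
      rw [Iso.hom_inv_id_apply]
      exact h2
    have h7 : c = 0 := by
      have := congrArg (e.hom.app V₁) h4
      rw [map_zero] at this
      exact (congrArg (fun φ : Coh.structureModule T ⟶ Coh.structureModule T => φ.app V₁ c) e.inv_hom_id).symm.trans this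
    have h8 : X.presheaf.map (homOfLE (hle.trans (j.le.trans inf_le_left))).op r = 0 :=
      (f.appIso V₁).commRingCatIsoToRingEquiv.injective (h7.trans (map_zero _).symm)
    refine (X.presheaf.germ_res_apply (homOfLE (hle.trans (j.le.trans inf_le_left))) (f.base p)
      ⟨p, hE, rfl⟩ r).symm.trans ?_
    rw [h8, map_zero]

/-- An invertible module is quasi-coherent. -/
theorem isQCoh_of_isInvertible {A : X.Modules} (hA : PicF.IsInvertible A) : Coh.IsQCoh A := by
  choose D hD e using hA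
  choose W hW hyW hWD using fun y => exists_isAffineOpen_mem_and_subset (X := X) (U := D y) (x := y) (hD y)
  refine TildeD.isQCoh_of_restrict A W hW (eq_top_iff.2 fun y _ => Opens.mem_iSup.2 ⟨y, hyW y⟩) fun y => ?_
  let l := (hW y).isoSpec.inv ≫ X.homOfLE (hWD y)
  have hl : (hW y).fromSpec = l ≫ (D y).ι := by
    rw [Category.assoc, X.homOfLE_ι]
    rfl
  let i : A.restrict (hW y).fromSpec ≅ Coh.structureModule (Spec Γ(X, W y)) :=
    (Scheme.Modules.restrictFunctorCongr hl).app A ≪≫ (Scheme.Modules.restrictFunctorComp l (D y).ι).app A ≪≫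
      (Scheme.Modules.restrictFunctor l).mapIso (e y).some ≪≫ Scheme.Modules.restrictUnitIso l
  exact DCohLib.isQCoh_of_iso' i.symm (inferInstance : Coh.IsQCoh (Coh.structureModule (Spec Γ(X, W y))))

variable {U : X.Opens}

/-- The direct image from an open vanishes on a disjoint open. -/
theorem isZero_restrict_push (V : X.Opens) (h : Disjoint (U : Set X) (V : Set X))
    (A : (↑U : Scheme.{u}).Modules) : IsZero (((Scheme.Modules.pushforward U.ι).obj A).restrict V.ι) := by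
  refine (IsZero.iff_id_eq_zero _).2 (Scheme.Modules.hom_ext _ _ fun W => AddCommGrpCat.hom_ext (AddMonoidHom.ext fun s => ?_))
  let s' : Γ(A, U.ι ⁻¹ᵁ (V.ι ''ᵁ W)) := s
  show s' = 0
  refine TopCat.Presheaf.section_ext ⟨A.presheaf, A.isSheaf⟩ _ s' 0 fun x hx => ?_
  obtain ⟨w, -, hw⟩ := hx
  have h' : U.ι x ∈ V := by
    rw [← hw]
    exact w.2
  exact (Set.disjoint_left.1 h x.2 h').elim

/-- Invertible modules extend over factorial points. -/
theorem exists_extension_invertible [IsLocallyNoetherian X] (L : (↑U : Scheme.{u}).Modules) (hL : PicF.IsInvertible L)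
    (hufd : ∀ x : X, x ∉ U → ∃ _ : IsDomain (X.presheaf.stalk x), UniqueFactorizationMonoid (X.presheaf.stalk x)) :
    ∃ L' : X.Modules, PicF.IsInvertible L' ∧ Nonempty (L'.restrict U.ι ≅ L) := by
  let V₀ : X.Opens := ⟨(closure (U : Set X))ᶜ, isClosed_closure.isOpen_compl⟩
  have hdisj : Disjoint (U : Set X) (V₀ : Set X) := Set.disjoint_left.2 fun a ha h => h (subset_closure ha)
  let U' : X.Opens := U ⊔ V₀
  have hdense : Dense (U' : Set X) := fun a => by
    by_cases ha : a ∈ closure (U : Set X)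
    · exact closure_mono (fun b hb => Or.inl hb) ha
    · exact subset_closure (Or.inr ha)
  let A := (Scheme.Modules.pushforward U.ι).obj L
  let B := (Scheme.Modules.pushforward V₀.ι).obj (Coh.structureModule (↑V₀ : Scheme.{u}))
  let P := A ⊞ B
  have hNX : ∀ x : X, ∃ W : X.Opens, x ∈ W ∧ NoetherianSpace (W : Set X) := fun y => by
    obtain ⟨W, hW, hyW, -⟩ := exists_isAffineOpen_mem_and_subset (X := X) (U := ⊤) (x := y) trivial
    haveI : IsNoetherianRing Γ(X, W) := IsLocallyNoetherian.component_noetherian ⟨W, hW⟩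
    exact ⟨W, hyW, noetherianSpace_of_isAffineOpen W hW⟩
  have hqc : ∀ O : X.Opens, QuasiCompact O.ι := fun O => quasiCompact_ι_of_isCompact_inter O
    fun _ h => isCompact_inter_of_noetherianNhds hNX h O
  haveI := hqc U
  haveI := hqc V₀
  haveI := hqc U'
  haveI := isQCoh_of_isInvertible hL
  haveI : Coh.IsQCoh P := DCohLib.isQCoh_biprod' (isQCoh_push_open U L) (isQCoh_push_open V₀ _)
  haveI : Coh.IsQCoh (P.restrict U'.ι) := inferInstance
  let M := (Scheme.Modules.pushforward U'.ι).obj (P.restrict U'.ι)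
  haveI : Coh.IsQCoh M := isQCoh_push_open U' _
  -- restrictions of `M`
  let rIso : ∀ (O : X.Opens) (hO : O ≤ U'), M.restrict O.ι ≅ P.restrict O.ι := fun O hO =>
    (Scheme.Modules.restrictFunctorCongr (X.homOfLE_ι hO).symm).app M ≪≫
      (Scheme.Modules.restrictFunctorComp (X.homOfLE hO) U'.ι).app M ≪≫
      (Scheme.Modules.restrictFunctor (X.homOfLE hO)).mapIso (pushOpenIso U' (P.restrict U'.ι)) ≪≫
      ((Scheme.Modules.restrictFunctorComp (X.homOfLE hO) U'.ι).app P).symm ≪≫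
      ((Scheme.Modules.restrictFunctorCongr (X.homOfLE_ι hO).symm).app P).symm
  haveI : ∀ O : X.Opens, PreservesBinaryBiproducts (Scheme.Modules.restrictFunctor O.ι) := fun O => by
    haveI := (Scheme.Modules.restrictAdjunction O.ι).leftAdjoint_preservesColimits
    exact preservesBinaryBiproducts_of_preservesBinaryCoproducts _
  let eU : M.restrict U.ι ≅ L := rIso U le_sup_left ≪≫ (Scheme.Modules.restrictFunctor U.ι).mapBiprod A B ≪≫
    biprod.mapIso (pushOpenIso U L) ((isZero_restrict_push U hdisj.symm (Coh.structureModule (↑V₀ : Scheme.{u}))).isoZero) ≪≫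
    (isoBiprodZero (isZero_zero _)).symm
  let eV : M.restrict V₀.ι ≅ Coh.structureModule (↑V₀ : Scheme.{u}) :=
    rIso V₀ le_sup_right ≪≫ (Scheme.Modules.restrictFunctor V₀.ι).mapBiprod A B ≪≫
    biprod.mapIso ((isZero_restrict_push V₀ hdisj L).isoZero) (pushOpenIso V₀ (Coh.structureModule (↑V₀ : Scheme.{u}))) ≪≫
    (isoZeroBiprod (isZero_zero _)).symm
  have hchart : ∀ {T : Scheme.{u}} (f : T ⟶ X) [IsOpenImmersion f] (_ : M.restrict f ≅ Coh.structureModule T) (z : X),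
      z ∈ Set.range f → f ''ᵁ ⊤ ≤ U' →
        ∃ W : X.Opens, IsAffineOpen W ∧ z ∈ W ∧ W ≤ U' ∧ ∃ g : Γ(M, W), Chart (fun _ => ⊤ : StalkSub M) W g := by
    intro T f _ e z hz hle
    obtain ⟨g, hg⟩ := exists_chart_of_iso f e
    obtain ⟨p, rfl⟩ := hz
    obtain ⟨W, hW, hzW, hWle⟩ := exists_isAffineOpen_mem_and_subset (U := f ''ᵁ ⊤) (x := f.base p) ⟨p, trivial, rfl⟩
    exact ⟨W, hW, hzW, le_trans hWle hle, _, hg.mono hWle⟩
  have hM' : InvGood (fun _ => (⊤ : Submodule _ _) : StalkSub M) U' := by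
    rintro z (hz | hz)
    · obtain ⟨D, hzD, ⟨e⟩⟩ := hL ⟨z, hz⟩
      refine hchart (D.ι ≫ U.ι) ((Scheme.Modules.restrictFunctorComp D.ι U.ι).app M ≪≫
        (Scheme.Modules.restrictFunctor D.ι).mapIso eU ≪≫ e) z ⟨⟨⟨z, hz⟩, hzD⟩, rfl⟩ ?_
      rintro _ ⟨w, -, rfl⟩
      exact Or.inl w.1.2
    · refine hchart V₀.ι eV z ⟨⟨z, hz⟩, rfl⟩ ?_
      rw [Scheme.Opens.ι_image_top]
      exact le_sup_right
  have hExt : ∀ W : X.Opens, Function.Bijective (M.presheaf.map (homOfLE (inf_le_left : W ⊓ U' ≤ W)).op) := fun W => by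
    have he : U'.ι ⁻¹ᵁ (W ⊓ U') = U'.ι ⁻¹ᵁ W := by
      rw [Scheme.Hom.preimage_inf, Scheme.Opens.ι_preimage_self, inf_top_eq]
    haveI : IsIso ((Opens.map U'.ι.base).map (homOfLE (inf_le_left : W ⊓ U' ≤ W))) := by
      rw [Subsingleton.elim ((Opens.map U'.ι.base).map (homOfLE (inf_le_left : W ⊓ U' ≤ W))) (eqToHom he)]
      infer_instance
    exact ConcreteCategory.bijective_of_isIso
      ((P.restrict U'.ι).presheaf.map ((Opens.map U'.ι.base).map (homOfLE (inf_le_left : W ⊓ U' ≤ W))).op)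
  obtain ⟨N, hN', hG⟩ := exists_invGood_top hdense hM' hExt fun x hx => hufd x fun h => hx (Or.inl h)
  haveI : IsIso ((Scheme.Modules.restrictFunctor U.ι).map (subι N)) := by
    rw [Scheme.Modules.Hom.isIso_iff_isIso_app]
    intro W
    refine (ConcreteCategory.isIso_iff_bijective _).2 ⟨fun a b h => subι_app_injective N (U.ι ''ᵁ W) h, fun s => ?_⟩
    refine ⟨(⟨s, fun z hz => ?_⟩ : sec N (U.ι ''ᵁ W)), rfl⟩
    rw [hN' z (Or.inl ?_)]
    · trivial
    · obtain ⟨w, -, rfl⟩ := hz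
      exact w.2
  exact ⟨subMod N, isInvertible_subMod hG,
    ⟨(asIso ((Scheme.Modules.restrictFunctor U.ι).map (subι N))) ≪≫ eU⟩⟩

end Groth.Agent.InvExt
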