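import Groth.Agent.InvExt.Alg

/-!
# Ideals whose associated primes are locally principal are principal near factorial points
-/

set_option autoImplicit false

universe u

namespace Groth.Agent.InvExt

variable {A : Type u} [CommRing A]

/-- `I` is principal at `Q`. -/
def PrincipalAt (I Q : Ideal A) : Prop := ∃ t ∈ I, ∀ s ∈ I, ∃ r ∉ Q, t ∣ r * s

theorem principalAt_of_isPrincipal_loc (I Q : Ideal A) [Q.IsPrime] (B : Type u) [CommRing B] [Algebra A B]
    [IsLocalization.AtPrime B Q] (h : (I.map (algebraMap A B)).IsPrincipal) : PrincipalAt I Q := by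
  obtain ⟨x, hx⟩ := h.principal
  have hxI : x ∈ I.map (algebraMap A B) := hx ▸ Submodule.mem_span_singleton_self x
  obtain ⟨⟨⟨t, ht⟩, u⟩, htu⟩ := (IsLocalization.mem_map_algebraMap_iff Q.primeCompl B).1 hxI
  refine ⟨t, ht, fun s hs => ?_⟩
  have hs' : algebraMap A B s ∈ I.map (algebraMap A B) := Ideal.mem_map_of_mem _ hs
  rw [hx] at hs'
  obtain ⟨c, hc⟩ := Submodule.mem_span_singleton.1 hs'
  obtain ⟨⟨y, v⟩, hyv⟩ := IsLocalization.surj Q.primeCompl c
  have h1 : algebraMap A B ((u : A) * v * s) = algebraMap A B (t * y) := by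
    rw [map_mul, map_mul, map_mul, ← htu, ← hyv, ← hc, smul_eq_mul]
    ring
  obtain ⟨⟨w, hw⟩, hw'⟩ := (IsLocalization.eq_iff_exists Q.primeCompl B).1 h1
  refine ⟨w * ((u : A) * v), Q.primeCompl.mul_mem hw (Q.primeCompl.mul_mem u.2 v.2), w * y, ?_⟩
  rw [mul_assoc]
  exact hw'.trans (by ring)

/-- An ideal, all of whose associated primes below a factorial point are locally principal, is principal nearby. -/
theorem exists_principal_near [IsDomain A] [IsNoetherianRing A] (P : Ideal A) [P.IsPrime]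
    (R : Type u) [CommRing R] [Algebra A R] [IsLocalization.AtPrime R P] [IsDomain R] [UniqueFactorizationMonoid R]
    (I : Ideal A) (hI : I ≠ ⊥)
    (h : ∀ a ∉ I, ∀ Q : Ideal A, Q.IsPrime → Q ≤ P → (∀ r, r * a ∈ I ↔ r ∈ Q) → PrincipalAt I Q) :
    ∃ f ∉ P, ∃ d : A, d ≠ 0 ∧ f * d ∈ I ∧ ∀ s ∈ I, d ∣ f * s := by
  classical
  obtain ⟨S, hS⟩ := IsNoetherian.noetherian I
  have hSI : ∀ s : S, (s : A) ∈ I := fun s => hS.le (Submodule.subset_span s.2)
  obtain ⟨k₀, hk₀⟩ : ∃ k : S, (k : A) ≠ 0 := by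
    by_contra hcon
    push Not at hcon
    exact hI (le_bot_iff.1 (hS ▸ Submodule.span_le.2 fun s hs => hcon ⟨s, hs⟩))
  obtain ⟨d, w, b, hd, hw, hb, hnd⟩ := exists_reduced_localization P R (fun s : S => (s : A)) (k₀ := k₀) hk₀
  have hdiv : ∀ s ∈ I, ∃ c ∈ Ideal.span (Set.range b), w * s = d * c := by
    intro s hs
    rw [← hS] at hs
    induction hs using Submodule.span_induction with
    | mem x hx => exact ⟨b ⟨x, hx⟩, Ideal.subset_span ⟨_, rfl⟩, hb ⟨x, hx⟩⟩
    | zero => exact ⟨0, zero_mem _, by simp⟩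
    | add x y _ _ hx hy =>
      obtain ⟨c, hc, hc'⟩ := hx
      obtain ⟨e, he, he'⟩ := hy
      exact ⟨c + e, add_mem hc he, by rw [mul_add, hc', he', mul_add]⟩
    | smul r x _ hx =>
      obtain ⟨c, hc, hc'⟩ := hx
      exact ⟨r * c, Ideal.mul_mem_left _ _ hc, by rw [smul_eq_mul, mul_left_comm, hc', mul_left_comm]⟩
  have hback : ∀ c ∈ Ideal.span (Set.range b), d * c ∈ I := by
    intro c hc
    induction hc using Submodule.span_induction with
    | mem x hx => obtain ⟨s, rfl⟩ := hx; exact hb s ▸ I.mul_mem_left _ (hSI s)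
    | zero => simp
    | add x y _ _ hx hy => rw [mul_add]; exact add_mem hx hy
    | smul r x _ hx => rw [smul_eq_mul, mul_left_comm]; exact I.mul_mem_left _ hx
  by_cases hP : ∀ k, b k ∈ P
  · exfalso
    obtain ⟨Q, hQmin, hQP⟩ := Ideal.exists_minimalPrimes_le
      (show Ideal.span (Set.range b) ≤ P from Ideal.span_le.2 (by rintro _ ⟨k, rfl⟩; exact hP k))
    haveI := hQmin.1.1
    have hass : IsAssociatedPrime Q (A ⧸ Ideal.span (Set.range b)) :=
      (Module.associatedPrimes.minimalPrimes_annihilator_subset_associatedPrimes (R := A) (M := A ⧸ Ideal.span (Set.range b)))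
        (by rw [Ideal.annihilator_quotient]; exact hQmin)
    obtain ⟨x, hx⟩ := ((isAssociatedPrime_iff_exists_injective_linearMap Q _).1 hass).2
    let c₁ := x (Ideal.Quotient.mk Q 1)
    obtain ⟨c, hc⟩ := Ideal.Quotient.mk_surjective c₁
    have hcQ : ∀ r, r * c ∈ Ideal.span (Set.range b) ↔ r ∈ Q := by
      intro r
      rw [← Ideal.Quotient.eq_zero_iff_mem, ← Ideal.Quotient.eq_zero_iff_mem (I := Q), ← map_eq_zero_iff x hx]
      have h1 : x (Ideal.Quotient.mk Q r) = r • c₁ := by
        rw [← map_smul]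
        congr 1
        rw [Algebra.smul_def, map_one, mul_one]
        rfl
      rw [h1, ← hc, Algebra.smul_def]
      rfl
    have hwQ : w ∉ Q := fun h' => hw (hQP h')
    have hcol : ∀ r, r * (d * c) ∈ I ↔ r ∈ Q := by
      intro r
      constructor
      · intro hr
        obtain ⟨e, he, he'⟩ := hdiv _ hr
        have h2 : w * r * c = e := mul_left_cancel₀ hd (by rw [← he']; ring)
        exact ((inferInstance : Q.IsPrime).mem_or_mem ((hcQ _).1 (h2 ▸ he))).resolve_left hwQ
      · intro hr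
        rw [mul_left_comm]
        exact hback _ ((hcQ r).2 hr)
    have ha : d * c ∉ I := fun hmem => (inferInstance : Q.IsPrime).ne_top
      ((Ideal.eq_top_iff_one _).2 ((hcol 1).1 (by rwa [one_mul])))
    obtain ⟨t, htI, ht⟩ := h _ ha Q inferInstance hQP hcol
    choose r hr c' hc' using fun k : S => ht k (hSI k)
    let ρ : A := ∏ k, r k
    have hρ : ρ ∉ Q := fun hmem => by
      obtain ⟨k, -, hk⟩ := (Ideal.IsPrime.prod_mem_iff (p := Q)).1 hmem
      exact hr k hk
    let C : S → A := fun k => (∏ j ∈ Finset.univ.erase k, r j) * c' k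
    have hC : ∀ k : S, ρ * (k : A) = C k * t := fun k => by
      show (∏ j, r j) * (k : A) = _
      rw [← Finset.mul_prod_erase _ _ (Finset.mem_univ k)]
      calc r k * (∏ j ∈ Finset.univ.erase k, r j) * (k : A) = (∏ j ∈ Finset.univ.erase k, r j) * (r k * k) := by ring
        _ = (∏ j ∈ Finset.univ.erase k, r j) * (t * c' k) := by rw [hc']
        _ = C k * t := by ring
    have ht0 : t ≠ 0 := fun h0 => hρ (by
      rw [((mul_eq_zero.1 ((hC k₀).trans (by rw [h0, mul_zero]))).resolve_right hk₀)]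
      exact zero_mem _)
    obtain ⟨e, he⟩ : ∃ e : S → A, ∑ k, e k * (k : A) = t := by
      have htS : t ∈ Submodule.span A (S : Set A) := hS.symm ▸ htI
      rw [show (S : Set A) = Set.range (Subtype.val : S → A) by simp, Submodule.mem_span_range_iff_exists_fun] at htS
      exact htS
    have hsum : (∑ k, e k * C k) = ρ := mul_right_cancel₀ ht0 (by
      rw [Finset.sum_mul]
      conv_rhs => rw [← he, Finset.mul_sum]
      exact Finset.sum_congr rfl fun k _ => by rw [mul_assoc, ← hC]; ring)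
    obtain ⟨k, hk⟩ : ∃ k, C k ∉ Q := by
      by_contra hcon
      push Not at hcon
      exact hρ (hsum ▸ sum_mem fun k _ => Q.mul_mem_left _ (hcon k))
    refine hnd Q inferInstance hQP k (hQmin.1.2 (Ideal.subset_span ⟨k, rfl⟩)) fun j => ⟨C k, hk, C j, ?_⟩
    refine mul_left_cancel₀ (mul_ne_zero ht0 hd) ?_
    calc t * d * (C k * b j) = (C k * t) * (d * b j) := by ring
      _ = (ρ * k) * (w * j) := by rw [← hC k, ← hb j]
      _ = (ρ * j) * (w * k) := by ring
      _ = t * d * (b k * C j) := by rw [hC j, hb k]; ring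
  · push Not at hP
    obtain ⟨k, hk⟩ := hP
    refine ⟨b k * w, P.primeCompl.mul_mem hk hw, d, hd, ?_, fun s hs => ?_⟩
    · rw [show b k * w * d = w * (d * b k) by ring, ← hb k, ← mul_assoc]
      exact I.mul_mem_left _ (hSI k)
    · obtain ⟨c, -, hc⟩ := hdiv s hs
      exact ⟨b k * c, by rw [mul_assoc, hc]; ring⟩

end Groth.Agent.InvExt
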