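import Groth.Agent.InvExt.Step
import Groth.Agent.InvExt.Principal
import Groth.Prelude.Def_BlowUp2

/-!
# Effective Cartier divisors near factorial points
-/

set_option autoImplicit false
set_option backward.isDefEq.respectTransparency false
set_option backward.defeqAttrib.useBackward true
set_option linter.style.haveILetI false

universe u

open CategoryTheory CategoryTheory.Limits AlgebraicGeometry TopologicalSpace Opposite

noncomputable section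

namespace Groth.Agent.InvExt

variable {X : Scheme.{u}}

theorem exists_point_primeIdealOf {W : X.Opens} (hW : IsAffineOpen W) (Q : Ideal Γ(X, W)) (hQ : Q.IsPrime) :
    ∃ (q : X) (hq : q ∈ W), (hW.primeIdealOf ⟨q, hq⟩).asIdeal = Q := by
  have hq : hW.fromSpec ⟨Q, hQ⟩ ∈ W := by
    rw [← SetLike.mem_coe, ← hW.range_fromSpec]
    exact Set.mem_range_self _
  exact ⟨_, hq, congrArg PrimeSpectrum.asIdeal
    (hW.fromSpec.isOpenEmbedding.injective (hW.fromSpec_primeIdealOf ⟨_, hq⟩))⟩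

theorem mem_basicOpen_iff_not_mem {W : X.Opens} (hW : IsAffineOpen W) (z : X) (hz : z ∈ W) (f : Γ(X, W)) :
    z ∈ X.basicOpen f ↔ f ∉ (hW.primeIdealOf ⟨z, hz⟩).asIdeal := by
  have h := SetLike.ext_iff.mp (hW.fromSpec_preimage_basicOpen f) (hW.primeIdealOf ⟨z, hz⟩)
  rw [Scheme.Hom.mem_preimage, hW.fromSpec_primeIdealOf] at h
  exact h

theorem specializes_of_primeIdealOf_le {W : X.Opens} (hW : IsAffineOpen W) {z z' : X} (hz : z ∈ W) (hz' : z' ∈ W)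
    (h : (hW.primeIdealOf ⟨z, hz⟩).asIdeal ≤ (hW.primeIdealOf ⟨z', hz'⟩).asIdeal) : z ⤳ z' := by
  have h := ((PrimeSpectrum.le_iff_specializes _ _).1 h).map hW.fromSpec.continuous
  rwa [hW.fromSpec_primeIdealOf, hW.fromSpec_primeIdealOf] at h

/-- An ideal sheaf which is locally principal at its associated points is Cartier near a factorial point. -/
theorem exists_cartier_nhd [IsLocallyNoetherian X] (𝓘 : X.IdealSheafData) (x : X) [IsDomain (X.presheaf.stalk x)]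
    [UniqueFactorizationMonoid (X.presheaf.stalk x)]
    (hne : ∀ W : X.affineOpens, x ∈ W.1 → IsIntegral (W.1 : Scheme.{u}) → 𝓘.ideal W ≠ ⊥)
    (h : ∀ W : X.affineOpens, x ∈ W.1 → IsIntegral (W.1 : Scheme.{u}) → ∀ a ∉ 𝓘.ideal W,
      ∀ (q : X) (hq : q ∈ W.1), q ⤳ x → (∀ r, r * a ∈ 𝓘.ideal W ↔ r ∈ (W.2.primeIdealOf ⟨q, hq⟩).asIdeal) →
        PrincipalAt (𝓘.ideal W) (W.2.primeIdealOf ⟨q, hq⟩).asIdeal) :
    ∃ U : X.affineOpens, x ∈ U.1 ∧ ∃ f : Γ(X, U.1), f ∈ nonZeroDivisors Γ(X, U.1) ∧ 𝓘.ideal U = Ideal.span {f} := by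
  obtain ⟨W₁, hxW₁, hW₁⟩ := AffLim.exists_isIntegral_nhd x
  obtain ⟨W₀, hW₀, hxW₀, hW₀₁⟩ := exists_isAffineOpen_mem_and_subset (U := W₁) hxW₁
  haveI : IsIntegral (W₀ : Scheme.{u}) := by
    haveI : Nonempty (W₀ : Scheme.{u}).toPresheafedSpace := ⟨⟨x, hxW₀⟩⟩
    exact isIntegral_of_isOpenImmersion (X.homOfLE hW₀₁)
  haveI : IsNoetherianRing Γ(X, W₀) := IsLocallyNoetherian.component_noetherian ⟨W₀, hW₀⟩
  haveI : IsDomain Γ(X, W₀) := isDomain_sections (W₀ := W₀) le_rfl ⟨x, hxW₀⟩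
  letI : Algebra Γ(X, W₀) (X.presheaf.stalk x) := TopCat.Presheaf.algebra_section_stalk X.presheaf ⟨x, hxW₀⟩
  haveI := hW₀.isLocalization_stalk ⟨x, hxW₀⟩
  obtain ⟨f, hf, d, hd, hfd, hdiv⟩ := exists_principal_near (hW₀.primeIdealOf ⟨x, hxW₀⟩).asIdeal (X.presheaf.stalk x)
    (𝓘.ideal ⟨W₀, hW₀⟩) (hne ⟨W₀, hW₀⟩ hxW₀ ‹_›) fun a ha Q hQ hQP hcol => by
      obtain ⟨q, hq, rfl⟩ := exists_point_primeIdealOf hW₀ Q hQ
      exact h ⟨W₀, hW₀⟩ hxW₀ ‹_› a ha q hq (specializes_of_primeIdealOf_le hW₀ hq hxW₀ hQP) hcol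
  have hxf : x ∈ X.basicOpen f := (mem_basicOpen_iff_not_mem hW₀ x hxW₀ f).2 hf
  let ρ : Γ(X, W₀) →+* Γ(X, X.basicOpen f) := (X.presheaf.map (homOfLE (X.basicOpen_le f)).op).hom
  have hu : IsUnit (ρ f) := RingedSpace.isUnit_res_basicOpen _ f
  haveI : IsDomain Γ(X, X.basicOpen f) := isDomain_sections (W₀ := W₀) (X.basicOpen_le f) ⟨x, hxf⟩
  have hρd : ρ d ∈ nonZeroDivisors Γ(X, X.basicOpen f) := mem_nonZeroDivisors_of_ne_zero fun h0 => hd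
    (res_inj (W₀ := W₀) le_rfl (X.basicOpen_le f) ⟨x, hxf⟩ h0)
  refine ⟨X.affineBasicOpen (U := ⟨W₀, hW₀⟩) f, hxf, ρ d, hρd, ?_⟩
  rw [← 𝓘.map_ideal_basicOpen ⟨W₀, hW₀⟩ f]
  refine le_antisymm (Ideal.map_le_iff_le_comap.2 fun s hs => Ideal.mem_comap.2 ?_) ?_
  · obtain ⟨c, hc⟩ := hdiv s hs
    refine Ideal.mem_span_singleton.2 (hu.dvd_mul_left.1 ?_)
    refine ⟨ρ c, ?_⟩
    show ρ f * ρ s = ρ d * ρ c
    rw [← map_mul, hc, map_mul]
  · refine (Ideal.span_singleton_le_iff_mem _).2 ?_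
    have h1 : ρ f * ρ d ∈ (𝓘.ideal ⟨W₀, hW₀⟩).map ρ := map_mul ρ f d ▸ Ideal.mem_map_of_mem _ hfd
    exact (Submodule.smul_mem_iff_of_isUnit _ hu).1 h1

end Groth.Agent.InvExt
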