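import Groth.Agent.InvExt.Cartier

/-!
# Codimension one points
-/

set_option autoImplicit false
set_option backward.isDefEq.respectTransparency false
set_option backward.defeqAttrib.useBackward true
set_option linter.style.haveILetI false

universe u

open CategoryTheory CategoryTheory.Limits AlgebraicGeometry TopologicalSpace Opposite

noncomputable section

namespace Groth.Agent.InvExt

/-- A one dimensional factorial local ring is a principal ideal ring. -/
theorem isPrincipalIdealRing_of_dim_le_one (R : Type u) [CommRing R] [IsDomain R] [UniqueFactorizationMonoid R]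
    (h : ringKrullDim R ≤ 1) : IsPrincipalIdealRing R := by
  haveI : Ring.KrullDimLE 1 R := Ring.krullDimLE_iff.2 h
  refine IsPrincipalIdealRing.of_prime_ne_bot fun P hP hP0 => ?_
  obtain ⟨π, hπP, hπ⟩ := hP.exists_mem_prime_of_ne_bot hP0
  haveI hspan : (Ideal.span {π}).IsPrime := (Ideal.span_singleton_prime hπ.ne_zero).2 hπ
  have hmax : (Ideal.span {π}).IsMaximal := Ring.krullDimLE_one_iff_of_isPrime_bot.1 ‹_› _
    (fun h0 => hπ.ne_zero (Ideal.span_singleton_eq_bot.1 h0)) hspan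
  exact ⟨π, (hmax.eq_of_le hP.ne_top ((Ideal.span_singleton_le_iff_mem _).2 hπP)).symm⟩

variable {X : Scheme.{u}}

theorem mem_support_iff_le {𝓘 : X.IdealSheafData} (W : X.affineOpens) (z : X) (hz : z ∈ W.1) :
    z ∈ 𝓘.support ↔ 𝓘.ideal W ≤ (W.2.primeIdealOf ⟨z, hz⟩).asIdeal := by
  rw [Scheme.IdealSheafData.mem_support_iff_of_mem hz, Scheme.mem_zeroLocus_iff]
  refine forall₂_congr fun f _ => ?_
  rw [mem_basicOpen_iff_not_mem W.2 z hz, not_not]

/-- Away from the support an ideal sheaf is the unit ideal. -/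
theorem exists_cartier_nhd_of_not_mem {𝓘 : X.IdealSheafData} {x : X} (hx : x ∉ 𝓘.support) :
    ∃ U : X.affineOpens, x ∈ U.1 ∧ ∃ f : Γ(X, U.1), f ∈ nonZeroDivisors Γ(X, U.1) ∧ 𝓘.ideal U = Ideal.span {f} := by
  obtain ⟨W, hW, hxW, hWc⟩ := exists_isAffineOpen_mem_and_subset
    (U := ⟨(𝓘.support : Set X)ᶜ, 𝓘.support.isClosed.isOpen_compl⟩) (x := x) hx
  refine ⟨⟨W, hW⟩, hxW, 1, one_mem _, ?_⟩
  rw [Ideal.span_singleton_one]
  by_contra hne
  obtain ⟨m, hm, hIm⟩ := Ideal.exists_le_maximal _ hne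
  obtain ⟨z, hz, rfl⟩ := exists_point_primeIdealOf hW m hm.isPrime
  exact hWc hz ((mem_support_iff_le ⟨W, hW⟩ z hz).2 hIm)

end Groth.Agent.InvExt
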