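import Groth.Agent.InvExt.Codim1
import Groth.Agent.PurityLib.NotAffine

/-!
# Complements of affine opens
-/

set_option autoImplicit false
set_option backward.isDefEq.respectTransparency false
set_option backward.defeqAttrib.useBackward true
set_option linter.style.haveILetI false

universe u

open CategoryTheory CategoryTheory.Limits AlgebraicGeometry TopologicalSpace Opposite

noncomputable section

namespace Groth.Agent.InvExt

/-- The complement of an affine open has codimension at most one. -/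
theorem height_le_one_of_compl_affine (A : Type u) [CommRing A] [IsNoetherianRing A]
    (U : (Spec (CommRingCat.of A)).Opens) (hU : IsAffineOpen U) (p : PrimeSpectrum A)
    (hpU : (p : (Spec (CommRingCat.of A) : Type u)) ∉ U)
    (hmin : ∀ q : PrimeSpectrum A, q.asIdeal ≤ p.asIdeal → (q : (Spec (CommRingCat.of A) : Type u)) ∉ U → q = p) :
    p.asIdeal.height ≤ 1 := by
  let R := Localization.AtPrime p.asIdeal
  let g : Spec (CommRingCat.of R) ⟶ Spec (CommRingCat.of A) := Spec.map (CommRingCat.ofHom (algebraMap A R))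
  haveI : IsAffineHom g := inferInstance
  haveI : IsNoetherianRing R := IsLocalization.isNoetherianRing p.asIdeal.primeCompl R inferInstance
  have hmem : ∀ P : PrimeSpectrum R, P ∈ g ⁻¹ᵁ U ↔ (PrimeSpectrum.comap (algebraMap A R) P : (Spec (CommRingCat.of A) : Type u)) ∈ U :=
    fun P => Iff.rfl
  have hclosed : PrimeSpectrum.comap (algebraMap A R) (IsLocalRing.closedPoint R) = p :=
    PrimeSpectrum.ext (IsLocalization.AtPrime.comap_maximalIdeal R p.asIdeal)
  have hd := PurityLib.ringKrullDim_le_one_of_isAffineOpen R (g ⁻¹ᵁ U) (fun P hP => by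
    by_contra hcon
    rw [hmem] at hcon
    have hle : (PrimeSpectrum.comap (algebraMap A R) P).asIdeal ≤ p.asIdeal := by
      conv_rhs => rw [← hclosed]
      exact Ideal.comap_mono (IsLocalRing.le_maximalIdeal P.isPrime.ne_top)
    refine hP (PrimeSpectrum.ext ?_)
    have h1 := congrArg PrimeSpectrum.asIdeal ((hmin _ hle hcon).trans hclosed.symm)
    show P.asIdeal = IsLocalRing.maximalIdeal R
    have h2 : P.asIdeal.comap (algebraMap A R) = (IsLocalRing.maximalIdeal R).comap (algebraMap A R) := h1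
    exact ((IsLocalization.map_comap p.asIdeal.primeCompl R P.asIdeal).symm.trans
      (congrArg (Ideal.map (algebraMap A R)) h2)).trans (IsLocalization.map_comap p.asIdeal.primeCompl R _)) (by
    rw [hmem, hclosed]
    exact hpU) (hU.preimage g)
  rw [IsLocalization.AtPrime.ringKrullDim_eq_height p.asIdeal R] at hd
  exact_mod_cast hd

variable {X : Scheme.{u}}

/-- The reduced ideal of the complement of a dense affine open with factorial local rings. -/
theorem exists_effCartier_compl [IsLocallyNoetherian X] (U : X.Opens) (hU : IsAffineOpen U)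
    (hdense : Dense (U : Set X)) (hΔ : ∀ V W : X.Opens, IsAffineOpen V → IsAffineOpen W → IsAffineOpen (V ⊓ W))
    (hufd : ∀ x : X, x ∉ U → IsDomain (X.presheaf.stalk x) ∧ UniqueFactorizationMonoid (X.presheaf.stalk x)) :
    ∃ 𝓘 : X.IdealSheafData, BlowUp.IsEffCartierIdeal 𝓘 ∧ (𝓘.support : Set X) = (U : Set X)ᶜ := by
  let T : Closeds X := ⟨(U : Set X)ᶜ, U.2.isClosed_compl⟩
  let 𝓘 := Scheme.IdealSheafData.vanishingIdeal T
  have hsupp : (𝓘.support : Set X) = (U : Set X)ᶜ := by
    exact Scheme.IdealSheafData.coe_support_vanishingIdeal T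
  refine ⟨𝓘, fun x => ?_, hsupp⟩
  by_cases hx : x ∈ 𝓘.support
  swap
  · exact exists_cartier_nhd_of_not_mem hx
  have hxU : x ∉ U := by rw [← SetLike.mem_coe, hsupp] at hx; exact hx
  obtain ⟨_, _⟩ := hufd x hxU
  refine exists_cartier_nhd 𝓘 x (fun W hxW hint hbot => ?_) (fun W hxW hint a ha q hq hqx hcol => ?_)
  · obtain ⟨y, hyW, hyU⟩ := hdense.inter_open_nonempty _ W.1.2 ⟨x, hxW⟩
    have hyS : y ∈ (𝓘.support : Set X) := (mem_support_iff_le W y hyW).2 (hbot ▸ bot_le)
    rw [hsupp] at hyS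
    exact hyS hyU
  · haveI : IsNoetherianRing Γ(X, W.1) := IsLocallyNoetherian.component_noetherian W
    have hI : ∀ (z : X) (hz : z ∈ W.1), z ∉ U ↔ 𝓘.ideal W ≤ (W.2.primeIdealOf ⟨z, hz⟩).asIdeal := fun z hz => by
      rw [← mem_support_iff_le W z hz, ← SetLike.mem_coe (x := z) (p := 𝓘.support), hsupp]
      rfl
    have hrad : (𝓘.ideal W).radical ≤ 𝓘.ideal W := by
      intro r hr
      obtain ⟨n, hn⟩ := hr
      rw [Scheme.IdealSheafData.vanishingIdeal_ideal, PrimeSpectrum.mem_vanishingIdeal] at hn ⊢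
      exact fun p hp => p.isPrime.mem_of_pow_mem n (hn p hp)
    have haQ : a ∉ (W.2.primeIdealOf ⟨q, hq⟩).asIdeal := fun haQ =>
      ha (hrad ⟨2, by rw [pow_two]; exact (hcol a).2 haQ⟩)
    have hqU : q ∉ U := (hI q hq).2 fun r hr => (hcol r).1 (Ideal.mul_mem_right _ _ hr)
    have hminQ : ∀ (z : X) (hz : z ∈ W.1), z ∉ U →
        (W.2.primeIdealOf ⟨z, hz⟩).asIdeal ≤ (W.2.primeIdealOf ⟨q, hq⟩).asIdeal →
        (W.2.primeIdealOf ⟨z, hz⟩).asIdeal = (W.2.primeIdealOf ⟨q, hq⟩).asIdeal := by
      intro z hz hzU hle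
      refine le_antisymm hle fun r hr => ?_
      have h1 : r * a ∈ (W.2.primeIdealOf ⟨z, hz⟩).asIdeal := (hI z hz).1 hzU ((hcol r).2 hr)
      exact ((inferInstance : (W.2.primeIdealOf ⟨z, hz⟩).asIdeal.IsPrime).mem_or_mem h1).resolve_right fun h => haQ (hle h)
    have hWU : IsAffineOpen (W.2.fromSpec ⁻¹ᵁ (W.1 ⊓ U)) :=
      (hΔ W.1 U W.2 hU).preimage_of_isOpenImmersion W.2.fromSpec (by
        rw [W.2.opensRange_fromSpec]
        exact inf_le_left)
    have hht := height_le_one_of_compl_affine Γ(X, W.1) (W.2.fromSpec ⁻¹ᵁ (W.1 ⊓ U)) hWU (W.2.primeIdealOf ⟨q, hq⟩)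
      (fun h => by
        rw [Scheme.Hom.mem_preimage, W.2.fromSpec_primeIdealOf] at h
        exact hqU h.2)
      (fun P hP hPU => by
        obtain ⟨z, hz, hzP⟩ := exists_point_primeIdealOf W.2 P.asIdeal P.isPrime
        obtain rfl : W.2.primeIdealOf ⟨z, hz⟩ = P := PrimeSpectrum.ext hzP
        have hzU : z ∉ U := fun h => hPU (by
          rw [Scheme.Hom.mem_preimage, W.2.fromSpec_primeIdealOf]
          exact ⟨hz, h⟩)
        exact PrimeSpectrum.ext (hminQ z hz hzU hP))
    obtain ⟨_, _⟩ := hufd q hqU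
    letI : Algebra Γ(X, W.1) (X.presheaf.stalk q) := TopCat.Presheaf.algebra_section_stalk X.presheaf ⟨q, hq⟩
    haveI := W.2.isLocalization_stalk ⟨q, hq⟩
    haveI := isPrincipalIdealRing_of_dim_le_one (X.presheaf.stalk q) (by
      rw [IsLocalization.AtPrime.ringKrullDim_eq_height (W.2.primeIdealOf ⟨q, hq⟩).asIdeal (X.presheaf.stalk q)]
      exact_mod_cast hht)
    exact principalAt_of_isPrincipal_loc _ _ (X.presheaf.stalk q) (IsPrincipalIdealRing.principal _)

end Groth.Agent.InvExt
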