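import Mathlib

/-!
# Removing the common divisor in a factorial localisation
-/

set_option autoImplicit false

universe u v

namespace Groth.Agent.InvExt

/-- Removing the common divisor. -/
theorem exists_reduced {R : Type u} [CommRing R] [IsDomain R] [WfDvdMonoid R] {ι : Type v}
    (a : ι → R) {k : ι} (hk : a k ≠ 0) :
    ∃ (d : R) (b : ι → R), d ≠ 0 ∧ (∀ i, a i = d * b i) ∧ ∀ p, Prime p → ∃ i, ¬ p ∣ b i := by
  suffices ∀ (x : R), x ≠ 0 → ∀ a : ι → R, a k = x →
      ∃ (d : R) (b : ι → R), d ≠ 0 ∧ (∀ i, a i = d * b i) ∧ ∀ p, Prime p → ∃ i, ¬ p ∣ b i from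
    this _ hk a rfl
  intro x
  induction x using (IsWellFounded.wf (r := DvdNotUnit (α := R))).induction with
  | _ x ih =>
    intro hx a ha
    by_cases h : ∃ p, Prime p ∧ ∀ i, p ∣ a i
    · obtain ⟨p, hp, hpa⟩ := h
      choose c hc using hpa
      have hck : c k ≠ 0 := fun h0 => hx (by rw [← ha, hc k, h0, mul_zero])
      obtain ⟨d, b, hd, hb, hb'⟩ := ih (c k) ⟨hck, p, hp.not_unit, by rw [← ha, hc k, mul_comm]⟩ hck c rfl
      exact ⟨p * d, b, mul_ne_zero hp.ne_zero hd, fun i => by rw [hc i, hb i, mul_assoc], hb'⟩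
    · push Not at h
      exact ⟨1, a, one_ne_zero, fun i => (one_mul _).symm, h⟩

/-- Near a factorial point the ideal of a reduced family has no generization defining a principal divisor. -/
theorem exists_reduced_localization {A : Type u} [CommRing A] [IsDomain A] (P : Ideal A) [P.IsPrime]
    (R : Type u) [CommRing R] [Algebra A R] [IsLocalization.AtPrime R P] [IsDomain R] [UniqueFactorizationMonoid R]
    {ι : Type v} [Finite ι] (a : ι → A) {k₀ : ι} (hk₀ : a k₀ ≠ 0) :
    ∃ (d w : A) (b : ι → A), d ≠ 0 ∧ w ∉ P ∧ (∀ i, w * a i = d * b i) ∧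
      ∀ Q : Ideal A, Q.IsPrime → Q ≤ P → ∀ k, b k ∈ Q → ¬ ∀ t, ∃ r ∉ Q, b k ∣ r * b t := by
  classical
  have hle : P.primeCompl ≤ nonZeroDivisors A := P.primeCompl_le_nonZeroDivisors
  have hinj : Function.Injective (algebraMap A R) := IsLocalization.injective R hle
  obtain ⟨δ, β, hδ, hβ, hβ'⟩ := exists_reduced (fun i => algebraMap A R (a i)) (k := k₀)
    ((map_ne_zero_iff _ hinj).2 hk₀)
  obtain ⟨u, hu⟩ := IsLocalization.exist_integer_multiples_of_finite P.primeCompl β
  choose b hb using hu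
  obtain ⟨⟨d, v⟩, hv⟩ := IsLocalization.surj P.primeCompl δ
  have hub : ∀ i, algebraMap A R (b i) = algebraMap A R (u : A) * β i := fun i => by
    rw [hb i, Algebra.smul_def]
  have hd : d ≠ 0 := by
    intro hd
    rw [hd, map_zero] at hv
    rcases mul_eq_zero.1 hv with h | h
    · exact hδ h
    · exact v.2 (by rw [(map_eq_zero_iff _ hinj).1 h]; exact zero_mem _)
  refine ⟨d, (u : A) * v, b, hd, P.primeCompl.mul_mem u.2 v.2, fun i => hinj ?_, ?_⟩
  · rw [map_mul, map_mul, map_mul, hβ i, hub i, ← hv]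
    ring
  intro Q hQ hQP k hbk hdiv
  haveI := hQ
  have hdisj : Disjoint (P.primeCompl : Set A) (Q : Set A) :=
    Set.disjoint_left.2 fun z hz hzQ => hz (hQP hzQ)
  haveI hQR : (Q.map (algebraMap A R)).IsPrime := IsLocalization.isPrime_of_isPrime_disjoint P.primeCompl R Q hQ hdisj
  have hcomap : ∀ z : A, algebraMap A R z ∈ Q.map (algebraMap A R) → z ∈ Q := fun z hz => by
    exact (IsLocalization.comap_map_of_isPrime_disjoint P.primeCompl R hQ hdisj).le hz
  by_cases hk0 : b k = 0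
  · have hall : ∀ t, b t = 0 := fun t => by
      obtain ⟨r, hr, hrt⟩ := hdiv t
      rw [hk0, zero_dvd_iff, mul_eq_zero] at hrt
      exact hrt.resolve_left fun h => hr (h ▸ zero_mem _)
    have h0 : algebraMap A R (u : A) * β k₀ = 0 := by rw [← hub, hall, map_zero]
    rcases mul_eq_zero.1 h0 with h | h
    · exact u.2 (by rw [(map_eq_zero_iff _ hinj).1 h]; exact zero_mem _)
    · exact hk₀ ((map_eq_zero_iff _ hinj).1 (by rw [hβ k₀, h, mul_zero]))
  have hne : algebraMap A R (b k) ≠ 0 := (map_ne_zero_iff _ hinj).2 hk0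
  obtain ⟨π, hπQ, hπk⟩ : ∃ π ∈ Q.map (algebraMap A R), Prime π ∧ π ∣ algebraMap A R (b k) := by
    have hmem : algebraMap A R (b k) ∈ Q.map (algebraMap A R) := Ideal.mem_map_of_mem _ hbk
    obtain ⟨w, hw⟩ := UniqueFactorizationMonoid.factors_prod hne
    have hprod : (UniqueFactorizationMonoid.factors (algebraMap A R (b k))).prod ∈ Q.map (algebraMap A R) := by
      refine (hQR.mem_or_mem (?_ : _ * (w : R) ∈ _)).resolve_right fun h => hQR.ne_top (Ideal.eq_top_of_isUnit_mem _ h w.isUnit)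
      rw [hw]
      exact hmem
    obtain ⟨π, hπ, hπQ⟩ := (hQR.multiset_prod_mem_iff_exists_mem _).1 hprod
    exact ⟨π, hπQ, UniqueFactorizationMonoid.prime_of_factor π hπ, UniqueFactorizationMonoid.dvd_of_mem_factors hπ⟩
  obtain ⟨t, ht⟩ := hβ' π hπk.1
  obtain ⟨r, hr, hrt⟩ := hdiv t
  have h1 : π ∣ algebraMap A R r * algebraMap A R (b t) := by
    rw [← map_mul]
    exact hπk.2.trans (map_dvd _ hrt)
  rcases hπk.1.dvd_or_dvd h1 with h | h
  · exact hr (hcomap r (Ideal.mem_of_dvd _ h hπQ))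
  · rw [hub t] at h
    rcases hπk.1.dvd_or_dvd h with h | h
    · exact hπk.1.not_unit (isUnit_of_dvd_unit h (IsLocalization.map_units R u))
    · exact ht h

end Groth.Agent.InvExt
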