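import Groth.Agent.SubLib.Extend
import Groth.Agent.FactorOne.Basic
import Groth.Prelude.Def_Pic

/-!
# Subsheaves generated by one section with trivial annihilator
-/

set_option autoImplicit false
set_option backward.isDefEq.respectTransparency false
set_option backward.defeqAttrib.useBackward true
set_option linter.style.haveILetI false

universe u

open CategoryTheory CategoryTheory.Limits AlgebraicGeometry TopologicalSpace Opposite
open Groth.Agent.CohBase Groth.Agent.QCohLib Groth.Agent.SubLib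

noncomputable section

namespace Groth.Agent.InvExt

variable {X : Scheme.{u}} {M : X.Modules}

/-- `g` freely generates `N` on `W`. -/
def Chart (N : StalkSub M) (W : X.Opens) (g : Γ(M, W)) : Prop :=
  ∀ (z : X) (hz : z ∈ W), N z = Submodule.span (X.presheaf.stalk z) {M.presheaf.germ W z hz g} ∧
    ∀ r : X.presheaf.stalk z, r • M.presheaf.germ W z hz g = 0 → r = 0

variable {N : StalkSub M} {W : X.Opens} {g : Γ(M, W)}

theorem Chart.mono (h : Chart N W g) {W' : X.Opens} (hle : W' ≤ W) :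
    Chart N W' (M.presheaf.map (homOfLE hle).op g) := fun z hz => by
  rw [M.presheaf.germ_res_apply]
  exact h z (hle hz)

theorem Chart.congr (h : Chart N W g) {N' : StalkSub M} (e : ∀ z ∈ W, N' z = N z) : Chart N' W g :=
  fun z hz => ⟨(e z hz).trans (h z hz).1, (h z hz).2⟩

theorem Chart.genOn (h : Chart N W g) : GenOn N W :=
  ⟨{g}, fun y hy => by rw [(h y hy).1, Finset.coe_singleton, Set.image_singleton]⟩

theorem Chart.sec_inj (h : Chart N W g) (r : Γ(X, W)) (hr : r • g = 0) : r = 0 :=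
  TopCat.Presheaf.section_ext X.sheaf W r 0 fun z hz => by
    refine ((h z hz).2 _ ?_).trans (map_zero _).symm
    refine (germ_smul' (M := M) W z hz r g).symm.trans ?_
    rw [hr, map_zero]

theorem Chart.exists_coeff [Coh.IsQCoh M] (h : Chart N W g) (hW : IsAffineOpen W) {s : Γ(M, W)}
    (hs : s ∈ sec N W) : ∃ c : Γ(X, W), c • g = s := by
  rw [sec_eq_span N hW (S := {g}) fun y hy => by
    rw [(h y hy).1, Finset.coe_singleton, Set.image_singleton]] at hs
  rw [Finset.coe_singleton] at hs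
  exact Submodule.mem_span_singleton.1 hs

/-- Locally free of rank one on `V`. -/
def InvGood (N : StalkSub M) (V : X.Opens) : Prop :=
  ∀ x ∈ V, ∃ W : X.Opens, IsAffineOpen W ∧ x ∈ W ∧ W ≤ V ∧ ∃ g : Γ(M, W), Chart N W g

theorem InvGood.good {V : X.Opens} (h : InvGood N V) : Good N V := fun x hx => by
  obtain ⟨W, hW, hxW, hWV, g, hg⟩ := h x hx
  exact ⟨W, hW, hxW, hWV, hg.genOn⟩

/-- The subsheaf of a locally free rank one family is invertible. -/
theorem Chart.nonempty_iso (h : Chart N W g) :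
    Nonempty ((subMod N).restrict W.ι ≅ Coh.structureModule (↑W : Scheme.{u})) := by
  have hWle : W.ι ''ᵁ (⊤ : (↑W : Scheme.{u}).Opens) ≤ W := W.ι_image_top.le
  have hmem : M.presheaf.map (homOfLE hWle).op g ∈ sec N (W.ι ''ᵁ ⊤) := fun z hz => by
    rw [M.presheaf.germ_res_apply, (h z (hWle hz)).1]
    exact Submodule.mem_span_singleton_self _
  let g₀ : Γ((subMod N).restrict W.ι, ⊤) := (⟨_, hmem⟩ : sec N (W.ι ''ᵁ ⊤))
  let ψ := FactorOne.ofSection ((subMod N).restrict W.ι) g₀
  have happ : ∀ (V : (↑W : Scheme.{u}).Opens) (c : Γ((↑W : Scheme.{u}), V)),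
      (subι N).app (W.ι ''ᵁ V) (ψ.app V c) =
        (W.ι.appIso V).inv c • (show Γ(M, W.ι ''ᵁ V) from M.presheaf.map (homOfLE ((W.ι.image_mono le_top).trans hWle)).op g) := fun V c => by
    rw [show ψ.app V c = _ from FactorOne.ofSection_app _ g₀ V c]
    show (W.ι.appIso V).inv c • (show Γ(M, W.ι ''ᵁ V) from M.presheaf.map (homOfLE (W.ι.image_mono le_top)).op (M.presheaf.map (homOfLE hWle).op g)) = _
    exact congrArg _ (restr_trans M _ _ g)
  haveI : Mono ψ := ⟨fun a b e => Scheme.Modules.hom_ext _ _ fun V => AddCommGrpCat.hom_ext (AddMonoidHom.ext fun s => by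
    have he : ψ.app V (a.app V s) = ψ.app V (b.app V s) := congrArg (fun φ => φ.app V s) e
    have hz : ∀ c : Γ((↑W : Scheme.{u}), V), ψ.app V c = 0 → c = 0 := fun c hc => by
      have h0 := (happ V c).symm.trans ((congrArg _ hc).trans (map_zero _))
      have h1 := (h.mono ((W.ι.image_mono le_top).trans hWle)).sec_inj _ h0
      exact (W.ι.appIso V).symm.commRingCatIsoToRingEquiv.injective (h1.trans (map_zero _).symm)
    exact sub_eq_zero.1 (hz _ ((map_sub (ψ.app V).hom _ _).trans (sub_eq_zero.2 he))))⟩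
  haveI : Epi ψ := by
    refine (PullbackMod.epi_iff_stalk _).2 fun p => fun t₀ => ?_
    obtain ⟨V, hpV, t, rfl⟩ := TopCat.Presheaf.exists_germ_eq ((subMod N).restrict W.ι).presheaf t₀
    obtain ⟨z, hzW⟩ := p
    have hzV : z ∈ W.ι ''ᵁ V := ⟨⟨z, hzW⟩, hpV, rfl⟩
    have ht : (subι N).app (W.ι ''ᵁ V) t ∈ sec N (W.ι ''ᵁ V) := mem_sec_of_app N _ t
    have ht' := ht z hzV
    rw [(h z hzW).1, Submodule.mem_span_singleton] at ht'
    obtain ⟨a, ha⟩ := ht'
    obtain ⟨D, hzD, a, rfl⟩ := TopCat.Presheaf.exists_germ_eq X.presheaf a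
    let D₁ : X.Opens := (D ⊓ W) ⊓ (W.ι ''ᵁ V)
    have hz₁ : z ∈ D₁ := ⟨⟨hzD, hzW⟩, hzV⟩
    have h1 : M.presheaf.germ D₁ z hz₁ ((show Γ(X, D₁) from X.presheaf.map (homOfLE (inf_le_left.trans inf_le_left : D₁ ≤ D)).op a) •
        M.presheaf.map (homOfLE (inf_le_left.trans inf_le_right : D₁ ≤ W)).op g) =
        M.presheaf.germ D₁ z hz₁ (M.presheaf.map (homOfLE (inf_le_right : D₁ ≤ W.ι ''ᵁ V)).op ((subι N).app _ t)) := by
      rw [germ_smul', X.presheaf.germ_res_apply, M.presheaf.germ_res_apply, M.presheaf.germ_res_apply]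
      exact ha
    obtain ⟨D₂, hzD₂, j, j', hres⟩ := TopCat.Presheaf.germ_eq M.presheaf z _ _ _ _ h1
    let V₂ : (↑W : Scheme.{u}).Opens := V ⊓ W.ι ⁻¹ᵁ D₂
    have hp₂ : (⟨z, hzW⟩ : (↑W : Scheme.{u})) ∈ V₂ := ⟨hpV, hzD₂⟩
    have hle₂ : W.ι ''ᵁ V₂ ≤ D₂ := (W.ι.image_mono inf_le_right).trans (W.ι.image_preimage_le D₂)
    have hleD : W.ι ''ᵁ V₂ ≤ D₁ := hle₂.trans j.le
    let c : Γ((↑W : Scheme.{u}), V₂) := (W.ι.appIso V₂).hom
      (X.presheaf.map (homOfLE (hleD.trans (inf_le_left.trans inf_le_left))).op a)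
    refine ⟨(Coh.structureModule (↑W : Scheme.{u})).presheaf.germ V₂ _ hp₂ c, ?_⟩
    rw [PullbackMod.stalkLin_germ]
    refine (congrArg _ (?_ : _ = ((subMod N).restrict W.ι).presheaf.map
      (homOfLE (inf_le_left : V₂ ≤ V)).op t)).trans (((subMod N).restrict W.ι).presheaf.germ_res_apply _ _ hp₂ t)
    refine subι_app_injective N (W.ι ''ᵁ V₂) ?_
    rw [happ V₂ c]
    show (W.ι.appIso V₂).inv ((W.ι.appIso V₂).hom _) • _ = _
    rw [Iso.hom_inv_id_apply]
    have h3 := congrArg (M.presheaf.map (homOfLE hle₂).op) hres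
    rw [show j = homOfLE j.le from Subsingleton.elim _ _,
      show j' = homOfLE j'.le from Subsingleton.elim _ _, restr_trans, restr_trans, restr_trans] at h3
    refine Eq.trans ?_ (h3.trans ?_)
    · refine Eq.symm ((HomLib.res_smul' hleD _ _).trans ?_)
      rw [restr_trans]
      exact congrArg (fun r : Γ(X, W.ι ''ᵁ V₂) => r • M.presheaf.map (homOfLE (hleD.trans (inf_le_left.trans inf_le_right))).op g)
        (by rw [← CommRingCat.comp_apply, ← Functor.map_comp]; rfl)
    · rfl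
  haveI : IsIso ψ := isIso_of_mono_of_epi _
  exact ⟨(asIso ψ).symm⟩

theorem isInvertible_subMod (h : InvGood N ⊤) : PicF.IsInvertible (subMod N) := fun y => by
  obtain ⟨W, -, hyW, -, g, hg⟩ := h y trivial
  exact ⟨W, hyW, hg.nonempty_iso⟩

end Groth.Agent.InvExt
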