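import Groth.Agent.InvExt.Chart
import Groth.Agent.InvExt.Alg
import Groth.Agent.SubLib.ExtendWO
import Groth.Agent.AffLim.Integral

/-!
# Extending a locally free rank one subsheaf over a factorial point
-/

set_option autoImplicit false
set_option backward.isDefEq.respectTransparency false
set_option backward.defeqAttrib.useBackward true
set_option linter.style.haveILetI false

universe u

open CategoryTheory CategoryTheory.Limits AlgebraicGeometry TopologicalSpace Opposite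
open Groth.Agent.CohBase Groth.Agent.QCohLib Groth.Agent.SubLib

noncomputable section

namespace Groth.Agent.InvExt

variable {X : Scheme.{u}}

section Integral

variable {W₀ : X.Opens} [IsIntegral (W₀ : Scheme.{u})]

theorem res_inj {W₁ W₂ : X.Opens} (h₁ : W₁ ≤ W₀) (h : W₂ ≤ W₁) (hne : (W₂ : Set X).Nonempty)
    {r : Γ(X, W₁)} (hr : X.presheaf.map (homOfLE h).op r = 0) : r = 0 := by
  haveI : Nonempty (W₀.ι ⁻¹ᵁ W₂ : (W₀ : Scheme.{u}).Opens) :=
    ⟨⟨⟨hne.some, h₁ (h hne.some_mem)⟩, hne.some_mem⟩⟩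
  haveI := W₀.ι.isIso_app W₁ (by rw [Scheme.Opens.opensRange_ι]; exact h₁)
  refine (asIso (W₀.ι.app W₁)).commRingCatIsoToRingEquiv.injective ?_
  rw [map_zero]
  refine map_injective_of_isIntegral (W₀ : Scheme.{u}) (homOfLE (W₀.ι.preimage_mono h)) ?_
  rw [map_zero]
  refine Eq.trans ?_ ((congrArg (W₀.ι.app W₂) hr).trans (map_zero _))
  show _ = (X.presheaf.map (homOfLE h).op ≫ W₀.ι.app W₂) r
  rw [Scheme.Hom.naturality]
  rfl

theorem isDomain_sections {W₁ : X.Opens} (h₁ : W₁ ≤ W₀) (hne : (W₁ : Set X).Nonempty) :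
    IsDomain Γ(X, W₁) := by
  haveI : Nonempty (W₀.ι ⁻¹ᵁ W₁ : (W₀ : Scheme.{u}).Opens) :=
    ⟨⟨⟨hne.some, h₁ hne.some_mem⟩, hne.some_mem⟩⟩
  haveI := W₀.ι.isIso_app W₁ (by rw [Scheme.Opens.opensRange_ι]; exact h₁)
  exact (asIso (W₀.ι.app W₁)).commRingCatIsoToRingEquiv.toMulEquiv.isDomain

theorem inter_nonempty {A B : X.Opens} (hA : A ≤ W₀) (hB : B ≤ W₀) (hA' : (A : Set X).Nonempty)
    (hB' : (B : Set X).Nonempty) : ((A ⊓ B : X.Opens) : Set X).Nonempty := by
  obtain ⟨a, ha⟩ := hA'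
  obtain ⟨b, hb⟩ := hB'
  obtain ⟨c, hc, hc'⟩ := nonempty_preirreducible_inter (W₀.ι ⁻¹ᵁ A).2 (W₀.ι ⁻¹ᵁ B).2
    ⟨⟨a, hA ha⟩, ha⟩ ⟨⟨b, hB hb⟩, hb⟩
  exact ⟨c.1, hc, hc'⟩

end Integral

variable {M : X.Modules}

theorem res_smul'' {V V' : X.Opens} (h : V' ≤ V) (a : Γ(X, V)) (s : Γ(M, V)) :
    M.presheaf.map (homOfLE h).op (a • s) =
      X.presheaf.map (homOfLE h).op a • M.presheaf.map (homOfLE h).op s :=
  HomLib.res_smul' h a s

theorem xres {A B C : X.Opens} (h : B ≤ A) (h' : C ≤ B) (r : Γ(X, A)) :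
    X.presheaf.map (homOfLE h').op (X.presheaf.map (homOfLE h).op r) = X.presheaf.map (homOfLE (h'.trans h)).op r := by
  rw [← CommRingCat.comp_apply, ← Functor.map_comp]
  rfl

variable {U' : X.Opens}

/-- Restriction from an integral open is injective on sections of `M`. -/
theorem sec_res_inj (hM' : InvGood (fun _ => (⊤ : Submodule _ _) : StalkSub M) U')
    (hExt : ∀ W : X.Opens, Function.Bijective (M.presheaf.map (homOfLE (inf_le_left : W ⊓ U' ≤ W)).op))
    {W₀ : X.Opens} [IsIntegral (W₀ : Scheme.{u})] {W₁ W₂ : X.Opens} (h₁ : W₁ ≤ W₀) (h : W₂ ≤ W₁)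
    (hne : (W₂ : Set X).Nonempty) {s : Γ(M, W₁)} (hs : M.presheaf.map (homOfLE h).op s = 0) : s = 0 := by
  refine (hExt W₁).1 ?_
  rw [map_zero]
  refine HomLib.ext_germ _ _ fun z hz => ?_
  rw [M.presheaf.germ_res_apply, map_zero]
  obtain ⟨W', hW', hzW', -, g, hg⟩ := hM' z hz.2
  have hmem : M.presheaf.germ W₁ z hz.1 s ∈ Submodule.span (X.presheaf.stalk z) {M.presheaf.germ W' z hzW' g} := by
    rw [← (hg z hzW').1]
    trivial
  obtain ⟨a, ha⟩ := Submodule.mem_span_singleton.1 hmem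
  obtain ⟨D, hzD, a, rfl⟩ := TopCat.Presheaf.exists_germ_eq X.presheaf a
  let D₁ : X.Opens := (D ⊓ W') ⊓ W₁
  have hz₁ : z ∈ D₁ := ⟨⟨hzD, hzW'⟩, hz.1⟩
  have h1 : M.presheaf.germ D₁ z hz₁ ((show Γ(X, D₁) from X.presheaf.map (homOfLE (inf_le_left.trans inf_le_left : D₁ ≤ D)).op a) •
      M.presheaf.map (homOfLE (inf_le_left.trans inf_le_right : D₁ ≤ W')).op g) =
      M.presheaf.germ D₁ z hz₁ (M.presheaf.map (homOfLE (inf_le_right : D₁ ≤ W₁)).op s) := by
    rw [germ_smul', X.presheaf.germ_res_apply, M.presheaf.germ_res_apply, M.presheaf.germ_res_apply]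
    exact ha
  obtain ⟨E, hzE, j, j', hres⟩ := TopCat.Presheaf.germ_eq M.presheaf z _ _ _ _ h1
  rw [show j = homOfLE j.le from Subsingleton.elim _ _, show j' = homOfLE j'.le from Subsingleton.elim _ _,
    res_smul'', restr_trans, restr_trans] at hres
  have hEW₁ : E ≤ W₁ := j.le.trans inf_le_right
  have hne' := inter_nonempty (W₀ := W₀) (hEW₁.trans h₁) (h.trans h₁) ⟨z, hzE⟩ hne
  have hEW' : E ≤ W' := j.le.trans (inf_le_left.trans inf_le_right)
  have hED : E ≤ D := j.le.trans (inf_le_left.trans inf_le_left)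
  have h2 := congrArg (M.presheaf.map (homOfLE (inf_le_left : E ⊓ W₂ ≤ E)).op) hres
  rw [res_smul'', restr_trans, restr_trans] at h2
  have h3 : M.presheaf.map (homOfLE ((inf_le_left : E ⊓ W₂ ≤ E).trans hEW₁)).op s = 0 := by
    rw [← restr_trans M h inf_le_right s, hs, map_zero]
  rw [h3] at h2
  have h4 := (hg.mono ((inf_le_left : E ⊓ W₂ ≤ E).trans hEW')).sec_inj _ h2
  have h5 : X.presheaf.map (homOfLE hED).op a = 0 := by
    refine res_inj (W₀ := W₀) (hEW₁.trans h₁) (inf_le_left : E ⊓ W₂ ≤ E) hne' ?_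
    rw [xres]
    refine Eq.trans ?_ h4
    exact ((congrArg _ (xres _ j.le a)).trans (xres _ inf_le_left a)).symm
  have h6 : X.presheaf.germ D z hzD a = 0 := by
    rw [← X.presheaf.germ_res_apply (homOfLE hED) z hzE a, h5, map_zero]
  rw [← ha, h6, zero_smul]

variable [Coh.IsQCoh M]

/-- One more step. -/
theorem exists_step_inv [IsLocallyNoetherian X] {N : StalkSub M} {V : X.Opens} (hUV : U' ≤ V)
    (hdense : Dense (U' : Set X)) (hM' : InvGood (fun _ => (⊤ : Submodule _ _) : StalkSub M) U')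
    (hExt : ∀ W : X.Opens, Function.Bijective (M.presheaf.map (homOfLE (inf_le_left : W ⊓ U' ≤ W)).op))
    (hN : InvGood N V) (x : X) (hxV : x ∉ V) [IsDomain (X.presheaf.stalk x)]
    [UniqueFactorizationMonoid (X.presheaf.stalk x)] :
    ∃ (N' : StalkSub M) (W : X.Opens), x ∈ W ∧ (∀ z ∈ V, N' z = N z) ∧ InvGood N' (V ⊔ W) := by
  classical
  -- an integral affine neighbourhood
  obtain ⟨W₁, hxW₁, hW₁⟩ := AffLim.exists_isIntegral_nhd x
  obtain ⟨W₀, hW₀, hxW₀, hW₀₁⟩ := exists_isAffineOpen_mem_and_subset (U := W₁) hxW₁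
  haveI : IsIntegral (W₀ : Scheme.{u}) := by
    haveI : Nonempty (W₀ : Scheme.{u}).toPresheafedSpace := ⟨⟨x, hxW₀⟩⟩
    exact isIntegral_of_isOpenImmersion (X.homOfLE hW₀₁)
  haveI : IsNoetherianRing Γ(X, W₀) := IsLocallyNoetherian.component_noetherian ⟨W₀, hW₀⟩
  haveI : IsDomain Γ(X, W₀) := isDomain_sections (W₀ := W₀) le_rfl ⟨x, hxW₀⟩
  -- points and primes
  have hmemD : ∀ (z : X) (hz : z ∈ W₀) (f : Γ(X, W₀)),
      z ∈ X.basicOpen f ↔ f ∉ (hW₀.primeIdealOf ⟨z, hz⟩).asIdeal := fun z hz f => by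
    have h := SetLike.ext_iff.mp (hW₀.fromSpec_preimage_basicOpen f) (hW₀.primeIdealOf ⟨z, hz⟩)
    rw [Scheme.Hom.mem_preimage, hW₀.fromSpec_primeIdealOf] at h
    exact h
  have hpt : ∀ Q : Ideal Γ(X, W₀), Q.IsPrime →
      ∃ (q : X) (hq : q ∈ W₀), (hW₀.primeIdealOf ⟨q, hq⟩).asIdeal = Q := fun Q hQ => by
    have hq : hW₀.fromSpec ⟨Q, hQ⟩ ∈ W₀ := by
      rw [← SetLike.mem_coe, ← hW₀.range_fromSpec]
      exact Set.mem_range_self _
    exact ⟨_, hq, congrArg PrimeSpectrum.asIdeal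
      (hW₀.fromSpec.isOpenEmbedding.injective (hW₀.fromSpec_primeIdealOf ⟨_, hq⟩))⟩
  have hgen : ∀ (z : X) (hz : z ∈ W₀) (z' : X) (hz' : z' ∈ W₀),
      (hW₀.primeIdealOf ⟨z, hz⟩).asIdeal ≤ (hW₀.primeIdealOf ⟨z', hz'⟩).asIdeal → z' ∈ V → z ∈ V := by
    intro z hz z' hz' hle hzV
    have h := ((PrimeSpectrum.le_iff_specializes _ _).1 hle).map hW₀.fromSpec.continuous
    rw [hW₀.fromSpec_primeIdealOf, hW₀.fromSpec_primeIdealOf] at h
    exact h.mem_open V.2 hzV
  -- generators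
  have hc : IsCompact ((V ⊓ W₀ : X.Opens) : Set X) := by
    haveI : IsNoetherianRing Γ(X, W₀) := inferInstance
    have := isCompact_inter_of_noetherianNhds (X := X) (fun y => by
      obtain ⟨A, hA, hyA, -⟩ := exists_isAffineOpen_mem_and_subset (X := X) (U := ⊤) (x := y) trivial
      haveI : IsNoetherianRing Γ(X, A) := IsLocallyNoetherian.component_noetherian ⟨A, hA⟩
      exact ⟨A, hyA, noetherianSpace_of_isAffineOpen A hA⟩) hW₀.isCompact V
    rwa [Opens.coe_inf, Set.inter_comm]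
  obtain ⟨N₁, hN₁, S, hS⟩ := exists_step hN.good hW₀ hc
  -- a small chart
  obtain ⟨x₁, hx₁W₀, hx₁U⟩ : ∃ x₁, x₁ ∈ W₀ ∧ x₁ ∈ U' := hdense.inter_open_nonempty _ W₀.2 ⟨x, hxW₀⟩
  obtain ⟨W', hW', hx₁W', hW'V, e₀, he₀⟩ := hN x₁ (hUV hx₁U)
  obtain ⟨h, hhle, hx₁h⟩ := hW₀.exists_basicOpen_le (V := W' ⊓ U') ⟨x₁, ⟨hx₁W', hx₁U⟩⟩ hx₁W₀
  let Dh := X.basicOpen h
  have hDh₀ : Dh ≤ W₀ := X.basicOpen_le h
  have hDhne : (Dh : Set X).Nonempty := ⟨x₁, hx₁h⟩
  let e : Γ(M, Dh) := M.presheaf.map (homOfLE (hhle.trans inf_le_left)).op e₀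
  have he : Chart N Dh e := he₀.mono _
  have hDhV : Dh ≤ V := (hhle.trans inf_le_left).trans hW'V
  haveI : IsDomain Γ(X, Dh) := isDomain_sections (W₀ := W₀) hDh₀ hDhne
  haveI := hW₀.isLocalization_basicOpen h
  let ρ : Γ(X, W₀) →+* Γ(X, Dh) := (X.presheaf.map (homOfLE hDh₀).op).hom
  have hρinj : Function.Injective ρ := (injective_iff_map_eq_zero _).2 fun r hr =>
    res_inj (W₀ := W₀) le_rfl hDh₀ hDhne hr
  let rM : Γ(M, W₀) → Γ(M, Dh) := fun s => M.presheaf.map (homOfLE hDh₀).op s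
  have hc : ∀ s : S, ∃ c : Γ(X, Dh), c • e = rM s.1 := fun s => he.exists_coeff (hW₀.basicOpen h) fun z hz => by
    show M.presheaf.germ Dh z hz (M.presheaf.map (homOfLE hDh₀).op s.1) ∈ N z
    rw [M.presheaf.germ_res_apply, ← hN₁ z (hDhV hz), hS z (hDh₀ hz)]
    exact Submodule.subset_span (Set.mem_image_of_mem _ s.2)
  choose c hc using hc
  obtain ⟨u, hu⟩ := IsLocalization.exist_integer_multiples_of_finite (Submonoid.powers h) c
  choose a ha using hu
  have hu' : ∀ s, ρ (a s) = ρ (u : Γ(X, W₀)) * c s := fun s => (ha s).trans (Algebra.smul_def _ _)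
  -- some coefficient is nonzero
  obtain ⟨k₀, hk₀⟩ : ∃ k, c k ≠ 0 := by
    by_contra hcon
    push Not at hcon
    have h0 : M.presheaf.germ Dh x₁ hx₁h e ∈ (⊥ : Submodule (X.presheaf.stalk x₁) (M.presheaf.stalk x₁)) := by
      have h1 : M.presheaf.germ Dh x₁ hx₁h e ∈ N₁ x₁ := by
        rw [hN₁ x₁ (hDhV hx₁h), (he x₁ hx₁h).1]
        exact Submodule.mem_span_singleton_self _
      rw [hS x₁ hx₁W₀] at h1
      refine Submodule.span_le.2 ?_ h1
      rintro _ ⟨s, hs, rfl⟩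
      have h2 : rM s = 0 := by rw [← hc ⟨s, hs⟩, hcon, zero_smul]
      rw [SetLike.mem_coe, Submodule.mem_bot, ← M.presheaf.germ_res_apply (homOfLE hDh₀) x₁ hx₁h s,
        show M.presheaf.map (homOfLE hDh₀).op s = 0 from h2, map_zero]
    exact one_ne_zero ((he x₁ hx₁h).2 1 (by rw [one_smul]; exact h0))
  have hu0 : ρ (u : Γ(X, W₀)) ≠ 0 := (IsLocalization.map_units Γ(X, Dh) u).ne_zero
  have hak₀ : a k₀ ≠ 0 := fun h0 => by
    have := hu' k₀
    rw [h0, map_zero] at this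
    exact mul_ne_zero hu0 hk₀ this.symm
  -- remove the common divisor at `x`
  letI : Algebra Γ(X, W₀) (X.presheaf.stalk x) := TopCat.Presheaf.algebra_section_stalk X.presheaf ⟨x, hxW₀⟩
  haveI := hW₀.isLocalization_stalk ⟨x, hxW₀⟩
  obtain ⟨d, w, b, hd, hw, hb, hnd⟩ := exists_reduced_localization
    (hW₀.primeIdealOf ⟨x, hxW₀⟩).asIdeal (X.presheaf.stalk x) a hak₀
  have hρd : ρ d ≠ 0 := (map_ne_zero_iff _ hρinj).2 hd
  have hbc : ∀ s t, ρ (b t) * c s = ρ (b s) * c t := fun s t => by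
    refine mul_left_cancel₀ (mul_ne_zero hρd hu0) ?_
    calc ρ d * ρ (u : Γ(X, W₀)) * (ρ (b t) * c s) = ρ (d * b t) * (ρ (u : Γ(X, W₀)) * c s) := by rw [map_mul]; ring
      _ = ρ (w * a t) * ρ (a s) := by rw [hb t, hu' s]
      _ = ρ (w * a s) * ρ (a t) := by rw [← map_mul, ← map_mul]; congr 1; ring
      _ = ρ (d * b s) * (ρ (u : Γ(X, W₀)) * c t) := by rw [hb s, hu' t]
      _ = ρ d * ρ (u : Γ(X, W₀)) * (ρ (b s) * c t) := by rw [map_mul]; ring
  have hrel : ∀ s t : S, b t • (s.1 : Γ(M, W₀)) = b s • (t.1 : Γ(M, W₀)) := fun s t => by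
    refine sub_eq_zero.1 (sec_res_inj hM' hExt (W₀ := W₀) le_rfl hDh₀ hDhne ?_)
    rw [map_sub, sub_eq_zero, res_smul'', res_smul'']
    show ρ (b t) • rM s.1 = ρ (b s) • rM t.1
    rw [← hc s, ← hc t, smul_smul, smul_smul, hbc]
  -- no point of `V` above `x` lies in the base locus
  have hbase : ∀ (q : X) (hq : q ∈ W₀), q ∈ V →
      (hW₀.primeIdealOf ⟨q, hq⟩).asIdeal ≤ (hW₀.primeIdealOf ⟨x, hxW₀⟩).asIdeal → ∃ s : S, q ∈ X.basicOpen (b s) := by
    intro q hq hqV hle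
    by_contra hcon
    push Not at hcon
    have hbQ : ∀ s, b s ∈ (hW₀.primeIdealOf ⟨q, hq⟩).asIdeal := fun s => by
      by_contra hh
      exact hcon s ((hmemD q hq _).2 hh)
    obtain ⟨Wq, hWq, hqWq, -, eq, heq⟩ := hN q hqV
    have hmem : ∀ s : S, ∃ γ : X.presheaf.stalk q, γ • M.presheaf.germ Wq q hqWq eq = M.presheaf.germ W₀ q hq s.1 := fun s => by
      refine Submodule.mem_span_singleton.1 ?_
      rw [← (heq q hqWq).1, ← hN₁ q hqV, hS q hq]
      exact Submodule.subset_span (Set.mem_image_of_mem _ s.2)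
    choose γ hγ using hmem
    obtain ⟨k, hk⟩ : ∃ k, IsUnit (γ k) := by
      have h1 : M.presheaf.germ Wq q hqWq eq ∈ Submodule.span (X.presheaf.stalk q)
          (Set.range fun s : S => γ s • M.presheaf.germ Wq q hqWq eq) := by
        have h2 : M.presheaf.germ Wq q hqWq eq ∈ N₁ q := by
          rw [hN₁ q hqV, (heq q hqWq).1]
          exact Submodule.mem_span_singleton_self _
        rw [hS q hq] at h2
        refine Submodule.span_mono ?_ h2
        rintro _ ⟨s, hs, rfl⟩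
        exact ⟨⟨s, hs⟩, hγ ⟨s, hs⟩⟩
      obtain ⟨r, hr⟩ := (Submodule.mem_span_range_iff_exists_fun _).1 h1
      have h3 : (∑ s, r s * γ s) - 1 = 0 := (heq q hqWq).2 _ (by
        rw [sub_smul, one_smul, Finset.sum_smul, sub_eq_zero]
        simpa only [mul_smul] using hr)
      have h4 : IsUnit (∑ s, r s * γ s) := by rw [sub_eq_zero.1 h3]; exact isUnit_one
      by_contra hno
      push Not at hno
      have : ∑ s, r s * γ s ∈ IsLocalRing.maximalIdeal (X.presheaf.stalk q) :=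
        sum_mem fun s _ => Ideal.mul_mem_left _ _ ((IsLocalRing.mem_maximalIdeal _).2 (hno s))
      exact (IsLocalRing.mem_maximalIdeal _).1 this h4
    refine hnd _ inferInstance hle k (hbQ k) fun t => ?_
    letI : Algebra Γ(X, W₀) (X.presheaf.stalk q) := TopCat.Presheaf.algebra_section_stalk X.presheaf ⟨q, hq⟩
    haveI := hW₀.isLocalization_stalk ⟨q, hq⟩
    let gq := X.presheaf.germ W₀ q hq
    have h5 : gq (b t) * γ k = gq (b k) * γ t := by
      refine sub_eq_zero.1 ((heq q hqWq).2 _ ?_)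
      rw [sub_smul, mul_smul, mul_smul, hγ, hγ, sub_eq_zero, ← germ_smul' (M := M), ← germ_smul' (M := M), hrel k t]
    obtain ⟨⟨y, r⟩, hyr⟩ := IsLocalization.surj (hW₀.primeIdealOf ⟨q, hq⟩).asIdeal.primeCompl (↑hk.unit⁻¹ * γ t)
    refine ⟨r, r.2, y, IsLocalization.injective (X.presheaf.stalk q)
      ((hW₀.primeIdealOf ⟨q, hq⟩).asIdeal.primeCompl_le_nonZeroDivisors) ?_⟩
    rw [map_mul, map_mul, ← hyr]
    show gq r * gq (b t) = gq (b k) * (↑hk.unit⁻¹ * γ t * gq r)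
    calc gq r * gq (b t) = gq r * (gq (b t) * γ k) * ↑hk.unit⁻¹ := by
          rw [← mul_assoc, mul_assoc (gq r * gq (b t)), IsUnit.mul_val_inv, mul_one]
      _ = gq (b k) * (↑hk.unit⁻¹ * γ t * gq r) := by rw [h5]; ring
  -- shrink
  let Bad : Set (Ideal Γ(X, W₀)) := {Q | Q ∈ (Ideal.span (Set.range b)).minimalPrimes ∧
    ¬ Q ≤ (hW₀.primeIdealOf ⟨x, hxW₀⟩).asIdeal}
  have hBad : Bad.Finite := (Ideal.finite_minimalPrimes_of_isNoetherianRing _ _).subset fun Q hQ => hQ.1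
  choose f hf hfx using fun Q : Bad => Set.not_subset.1 Q.2.2
  haveI := hBad.fintype
  let F : Γ(X, W₀) := ∏ Q : Bad, f Q
  have hxF : x ∈ X.basicOpen F := by
    rw [hmemD x hxW₀]
    exact fun hF => by
      obtain ⟨Q, -, hQ⟩ := (Ideal.IsPrime.prod_mem_iff (p := (hW₀.primeIdealOf ⟨x, hxW₀⟩).asIdeal)).1 hF
      exact hfx Q hQ
  let W₂ := X.basicOpen F
  have hW₂₀ : W₂ ≤ W₀ := X.basicOpen_le F
  have hcover : ∀ z ∈ W₂, z ∈ V → ∃ s : S, z ∈ X.basicOpen (b s) := by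
    intro z hz hzV
    by_contra hcon
    push Not at hcon
    have hI : Ideal.span (Set.range b) ≤ (hW₀.primeIdealOf ⟨z, hW₂₀ hz⟩).asIdeal := Ideal.span_le.2 (by
      rintro _ ⟨s, rfl⟩
      by_contra hh
      exact hcon s ((hmemD z _ _).2 hh))
    obtain ⟨Q, hQmin, hQz⟩ := Ideal.exists_minimalPrimes_le hI
    have hnot : Q ∉ Bad := fun hQB => (hmemD z (hW₂₀ hz) F).1 hz
      (hQz (Ideal.prod_mem (f := f) Q (Finset.mem_univ (⟨Q, hQB⟩ : Bad)) (hf ⟨Q, hQB⟩)))
    have hQle : Q ≤ (hW₀.primeIdealOf ⟨x, hxW₀⟩).asIdeal := by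
      by_contra hh
      exact hnot ⟨hQmin, hh⟩
    obtain ⟨q, hq, hqQ⟩ := hpt Q hQmin.1.1
    obtain ⟨s, hs⟩ := hbase q hq (hgen q hq z (hW₂₀ hz) (hqQ.le.trans hQz) hzV) (hqQ.le.trans hQle)
    exact (hmemD q hq _).1 hs (hqQ.symm.le (hQmin.1.2 (Ideal.subset_span ⟨s, rfl⟩)))
  -- the new generator
  let O : S → X.Opens := fun s => (W₂ ⊓ U') ⊓ X.basicOpen (b s)
  have hO₀ : ∀ s, O s ≤ W₀ := fun s => inf_le_left.trans (inf_le_left.trans hW₂₀)
  have hunit : ∀ s, IsUnit (X.presheaf.map (homOfLE (hO₀ s)).op (b s)) := fun s => by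
    have h1 : X.presheaf.map (homOfLE (hO₀ s)).op (b s) = X.presheaf.map (homOfLE inf_le_right).op
        (X.presheaf.map (homOfLE (X.basicOpen_le (b s))).op (b s)) := by
      rw [← CommRingCat.comp_apply, ← Functor.map_comp]
      rfl
    rw [h1]
    exact (RingedSpace.isUnit_res_basicOpen _ (b s)).map _
  let sf : ∀ s : S, Γ(M, O s) := fun s =>
    ((hunit s).unit⁻¹ : _ˣ).1 • M.presheaf.map (homOfLE (hO₀ s)).op s.1
  have hsf : ∀ (s t : S) (D : X.Opens) (hDs : D ≤ O s),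
      X.presheaf.map (homOfLE (hDs.trans (hO₀ s))).op (b t) • M.presheaf.map (homOfLE hDs).op (sf s) =
        M.presheaf.map (homOfLE (hDs.trans (hO₀ s))).op t.1 := by
    intro s t D hDs
    have h1 : X.presheaf.map (homOfLE (hDs.trans (hO₀ s))).op (b s) =
        X.presheaf.map (homOfLE hDs).op (X.presheaf.map (homOfLE (hO₀ s)).op (b s)) := by
      rw [← CommRingCat.comp_apply, ← Functor.map_comp]
      rfl
    rw [res_smul'', restr_trans, smul_smul, mul_comm, ← smul_smul, ← res_smul'' (hDs.trans (hO₀ s)) (b t),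
      hrel s t, res_smul'', smul_smul, h1, ← map_mul, IsUnit.val_inv_mul, map_one, one_smul]
  have hcompat : TopCat.Presheaf.IsCompatible M.presheaf O sf := fun s t => by
    let D : X.Opens := O s ⊓ O t
    show M.presheaf.map (homOfLE (inf_le_left : D ≤ O s)).op (sf s) = M.presheaf.map (homOfLE (inf_le_right : D ≤ O t)).op (sf t)
    refine (IsUnit.smul_left_cancel (a := X.presheaf.map (homOfLE ((inf_le_left : D ≤ O s).trans (hO₀ s))).op (b t)) ?_).1
      ((hsf s t D inf_le_left).trans (hsf t t D inf_le_right).symm)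
    have h1 : X.presheaf.map (homOfLE ((inf_le_left : D ≤ O s).trans (hO₀ s))).op (b t) =
        X.presheaf.map (homOfLE (inf_le_right : D ≤ O t)).op (X.presheaf.map (homOfLE (hO₀ t)).op (b t)) := by
      rw [← CommRingCat.comp_apply, ← Functor.map_comp]
      rfl
    rw [h1]
    exact (hunit t).map _
  have hcov : W₂ ⊓ U' ≤ ⨆ s, O s := fun z hz => by
    obtain ⟨s, hs⟩ := hcover z hz.1 (hUV hz.2)
    exact Opens.mem_iSup.2 ⟨s, hz, hs⟩
  obtain ⟨g', hg', -⟩ := TopCat.Sheaf.existsUnique_gluing' ⟨M.presheaf, M.isSheaf⟩ O (W₂ ⊓ U')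
    (fun s => homOfLE inf_le_left) hcov sf hcompat
  obtain ⟨g, hg⟩ := (hExt W₂).2 g'
  have hbg : ∀ t : S, X.presheaf.map (homOfLE hW₂₀).op (b t) • g = M.presheaf.map (homOfLE hW₂₀).op t.1 := fun t => by
    refine (hExt W₂).1 ?_
    refine HomLib.ext_germ _ _ fun z hz => ?_
    obtain ⟨s, hs⟩ := Opens.mem_iSup.1 (hcov hz)
    have h1 := hsf s t (O s) le_rfl
    rw [restr_self] at h1
    have h2 := congrArg (M.presheaf.germ (O s) z hs) h1
    rw [germ_smul', ← hg' s, ← hg, restr_trans, M.presheaf.germ_res_apply, X.presheaf.germ_res_apply,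
      M.presheaf.germ_res_apply] at h2
    rw [M.presheaf.germ_res_apply, germ_smul', X.presheaf.germ_res_apply, M.presheaf.germ_res_apply,
      M.presheaf.germ_res_apply]
    exact h2
  -- the new family
  refine ⟨fun z => if z ∈ V then N z else if hz : z ∈ W₂ then
    Submodule.span (X.presheaf.stalk z) {M.presheaf.germ W₂ z hz g} else ⊥, W₂, hxF,
    fun z hz => if_pos hz, ?_⟩
  rintro z (hz | hz)
  · obtain ⟨Wz, hWz, hzWz, hWzV, gz, hgz⟩ := hN z hz
    exact ⟨Wz, hWz, hzWz, hWzV.trans le_sup_left, gz, hgz.congr fun y hy => if_pos (hWzV hy)⟩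
  · refine ⟨W₂, hW₀.basicOpen F, hz, le_sup_right, g, fun y hy => ⟨?_, fun r hr => ?_⟩⟩
    · dsimp only
      by_cases hyV : y ∈ V
      · rw [if_pos hyV, ← hN₁ y hyV, hS y (hW₂₀ hy)]
        obtain ⟨s, hs⟩ := hcover y hy hyV
        refine le_antisymm (Submodule.span_le.2 ?_) (Submodule.span_le.2 ?_)
        · rintro _ ⟨t, ht, rfl⟩
          rw [SetLike.mem_coe, ← M.presheaf.germ_res_apply (homOfLE hW₂₀) y hy t,
            ← hbg ⟨t, ht⟩, germ_smul']
          exact Submodule.smul_mem _ _ (Submodule.mem_span_singleton_self _)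
        · rintro _ rfl
          have hu2 : IsUnit (X.presheaf.germ W₀ y (hW₂₀ hy) (b s)) := (X.mem_basicOpen _ y (hW₂₀ hy)).1 hs
          refine (Submodule.smul_mem_iff_of_isUnit _ hu2).1 ?_
          have h1 := congrArg (M.presheaf.germ W₂ y hy) (hbg s)
          rw [germ_smul', X.presheaf.germ_res_apply, M.presheaf.germ_res_apply] at h1
          rw [h1]
          exact Submodule.subset_span (Set.mem_image_of_mem _ s.2)
      · rw [if_neg hyV, dif_pos hy]
    · obtain ⟨D, hyD, r, rfl⟩ := TopCat.Presheaf.exists_germ_eq X.presheaf r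
      let D₁ : X.Opens := D ⊓ W₂
      have h1 : M.presheaf.germ D₁ y ⟨hyD, hy⟩ ((show Γ(X, D₁) from X.presheaf.map (homOfLE inf_le_left).op r) •
          M.presheaf.map (homOfLE inf_le_right).op g) = M.presheaf.germ D₁ y ⟨hyD, hy⟩ 0 := by
        rw [germ_smul', X.presheaf.germ_res_apply, M.presheaf.germ_res_apply, map_zero]
        exact hr
      obtain ⟨E, hyE, j, j', hres⟩ := TopCat.Presheaf.germ_eq M.presheaf y _ _ _ _ h1
      rw [show j = homOfLE j.le from Subsingleton.elim _ _, map_zero, res_smul'', restr_trans,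
        ← CommRingCat.comp_apply, ← Functor.map_comp] at hres
      have hE₀ : E ≤ W₀ := j.le.trans (inf_le_right.trans hW₂₀)
      have hne' := inter_nonempty (W₀ := W₀) hE₀ hDh₀ ⟨y, hyE⟩ hDhne
      have hEd : E ≤ D := j.le.trans inf_le_left
      have hEh : E ⊓ Dh ≤ W₂ := inf_le_left.trans (j.le.trans inf_le_right)
      have h2 := congrArg (fun m => X.presheaf.map (homOfLE ((inf_le_left : E ⊓ Dh ≤ E).trans hE₀)).op (b k₀) •
        M.presheaf.map (homOfLE (inf_le_left : E ⊓ Dh ≤ E)).op m) hres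
      simp only [map_zero, smul_zero] at h2
      rw [res_smul'', restr_trans, smul_smul, mul_comm, ← smul_smul] at h2
      have h3 := congrArg (M.presheaf.map (homOfLE hEh).op) (hbg k₀)
      rw [res_smul'', restr_trans, ← CommRingCat.comp_apply, ← Functor.map_comp] at h3
      have h4 : M.presheaf.map (homOfLE (hEh.trans hW₂₀)).op k₀.1 =
          X.presheaf.map (homOfLE (inf_le_right : E ⊓ Dh ≤ Dh)).op (c k₀) •
            M.presheaf.map (homOfLE (inf_le_right : E ⊓ Dh ≤ Dh)).op e := by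
        rw [← res_smul'', hc k₀]
        exact (restr_trans M hDh₀ inf_le_right k₀.1).symm
      erw [h3, h4, smul_smul] at h2
      have h5 := (he.mono inf_le_right).sec_inj _ h2
      haveI := isDomain_sections (W₀ := W₀) (inf_le_left.trans hE₀) hne'
      rcases mul_eq_zero.1 h5 with h6 | h6
      · have h7 : X.presheaf.map (homOfLE hEd).op r = 0 := by
          refine res_inj (W₀ := W₀) hE₀ (inf_le_left : E ⊓ Dh ≤ E) hne' ?_
          rw [← CommRingCat.comp_apply, ← Functor.map_comp] at h6 ⊢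
          exact h6
        rw [← X.presheaf.germ_res_apply (homOfLE hEd) y hyE r, h7, map_zero]
      · exact absurd (res_inj (W₀ := W₀) hDh₀ inf_le_right hne' h6) hk₀

end Groth.Agent.InvExt
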